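import Cfsg.Agent.Lib.ONanRec.PinData.C0
import Cfsg.Agent.Lib.StdON.ModelCheck

/-!
The lists for candidate 0 (generated).
-/

set_option autoImplicit false
set_option maxRecDepth 100000
set_option maxHeartbeats 4000000

namespace CfsgLib.StdON.ModelData

open ONanRec.PinData

noncomputable def de0 : List (List ℕ) := [
  [0,3,0,2,0,3,0,2,0,3,5], [], [0,2,0,3,0,2,0,3,0,2,4], [2,0,2,6,3,0,3,0,2,0,6,0,3], [3,0,2,0,3,0,2,0,3,5], [0],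
  [2,0,3,0,2,0,3,0,2,4], [0,2,0,2,6,3,0,3,0,2,0,6,0,3], [5], [0,3,0,2,0,3,0,2,0,3,4,4], [0,2,0,3,0,2,0,3,0,2], [2,0,4,6,0,3,0,2,0,6,0,3],
  [4], [0,3,0,2,0,3,0,2,0,3], [0,2,0,3,0,2,0,3,0,2,4,4], [2,0,5,6,0,3,0,2,0,6,0,3], [2,0,3,0,2,0,3,0,2,4,4], [0,4],
  [0,2,0,5,6,0,3,0,2,0,6,0,3], [3,0,2,0,3,0,2,0,3], [0,5], [2,0,3,0,2,0,3,0,2], [3,0,2,0,3,0,2,0,3,4,4], [0,2,0,4,6,0,3,0,2,0,6,0,3],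
  [6,0,6], [6,0,3,6,0,2,0,3,0,2,0,3], [6,0,2,6,0,3,0,2,0,3,0,2], [2,0,6,0,3,0,2,0,6,0,6,3,0,6], [4,4], [0,2,0,3,0,2,0,3,0,2,5],
  [0,3,0,2,0,3,0,2,0,3,4], [2,0,6,0,3,0,2,0,6,0,3], [0,4,4], [2,0,3,0,2,0,3,0,2,5], [3,0,2,0,3,0,2,0,3,4], [0,2,0,6,0,3,0,2,0,6,0,3],
  [0,2,0,3,0,2,0,3,0,2,6,0,6], [5,6,0,6], [2,0,2,2,6,0,3,0,2,0,2,2,6,0,3], [0,3,0,2,0,3,0,2,0,6,3,0,6], [0,2,0,3,0,2,0,3,0,6,2,0,6], [4,6,0,6],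
  [2,0,2,2,6,0,3,0,2,0,2,6,2,0,3], [0,3,0,2,0,3,0,2,0,3,6,0,6], [0,6,0,6], [0,6,0,3,6,0,2,0,3,0,2,0,3], [0,6,0,2,6,0,3,0,2,0,3,0,2], [0,2,0,6,0,3,0,2,0,6,0,6,3,0,6],
  [6,0,2,6,0,2,0,3,6,0,2,0,2,0,6], [2,0,2,0,2,0,4,6,0,3,6,0,3,0,3], [0,3,6,0,3,0,6,2,0,3,0,3], [2,2,0,3,6,0,3,6,0,3,6,0,6,2], [6,0,6,3,0,2,0,3,0,2,0,3], [2,6,3,0,6],
  [6,0,6,2,0,3,0,2,0,3,0,2], [2,0,6,0,3,0,2,0,6,0,3,6,0,6], [2,0,3,0,2,0,3,0,2,6,0,6], [0,5,6,0,6], [3,0,3,0,2,0,2,0,3,0,3,0,2,0,2], [3,0,2,0,3,0,2,0,6,3,0,6],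
  [2,0,3,0,2,0,3,0,6,2,0,6], [0,4,6,0,6], [0,2,0,2,2,6,0,3,0,2,0,2,6,2,0,3], [3,0,2,0,3,0,2,0,3,6,0,6], [0,2,0,2,0,2,0,4,6,0,3,6,0,3,0,3], [0,6,0,2,6,0,2,0,3,6,0,2,0,2,0,6],
  [3,6,0,3,6,0,2,2,0,2,6,0,2,6], [3,6,0,3,0,6,2,0,3,0,3], [2,0,2,0,2,0,6,0,6,3,0,3,0,3], [2,0,2,0,3,6,0,2,0,6,2], [0,6,0,3,0,3,0,2,6,0,3,0,6,3,0,6], [2,6,0,3,0,2,6,2,0,2,2,0,2],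
  [2,0,2,0,3,6,0,2,0,2,6], [2,0,2,0,2,0,6,0,3,6,0,3,0,3], [0,6,0,3,0,3,0,2,6,0,3,0,3,6,0,6], [2,6,0,3,0,2,2,6,0,2,2,0,2], [0,6,0,6,3,0,2,0,3,0,2,0,3], [0,2,6,3,0,6],
  [0,6,0,6,2,0,3,0,2,0,3,0,2], [0,2,0,6,0,3,0,2,0,6,0,3,6,0,6], [0,2,0,2,0,2,0,6,0,6,3,0,3,0,3], [0,2,6,0,3,0,2,6,2,0,2,2,0,2], [6,0,3,0,3,0,2,6,0,3,0,6,3,0,6], [0,2,0,2,0,3,6,0,2,0,6,2],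
  [0,2,0,2,0,2,0,6,0,3,6,0,3,0,3], [6,0,3,0,3,0,2,6,0,3,0,3,6,0,6], [0,2,0,2,0,3,6,0,2,0,2,6], [0,2,6,0,3,0,2,2,6,0,2,2,0,2], [0,3,6,0,3,0,2,6,0,3,0,3], [2,0,2,0,2,0,4,6,0,6,3,0,3,0,3],
  [6,0,2,6,0,2,0,6,3,0,2,0,2,0,6], [2,2,0,3,6,0,3,6,0,3,6,0,2,6], [0,2,0,2,0,2,0,4,6,0,6,3,0,3,0,3], [3,6,0,3,0,2,6,0,3,0,3], [0,6,0,2,6,0,2,0,6,3,0,2,0,2,0,6], [3,6,0,3,6,0,2,2,0,2,6,0,6,2],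
  [0,6,0,3,0,3,0,6,2,0,3,0,3], [2,0,3,6,0,2,0,3,0,2,2,0,6,0,3], [2,2,0,2,2,0,2,0,2,2,0,2,2], [2,0,2,0,6,3,0,2,0,2,0,6], [0,4,6,0,3,0,3,0,2,6,0,3,0,3], [2,0,3,0,3,0,6,0,3,0,2,0,6,2,0,3],
  [2,2,0,2,2,0,2,0,2,2,0,2,2,5], [2,0,2,0,3,4,6,0,2,0,2,0,6], [0,4,6,0,3,0,3,0,6,2,0,3,0,3], [2,0,3,0,3,0,6,0,3,0,2,0,2,6,0,3], [2,2,0,2,2,0,2,0,2,2,0,2,2,4], [2,0,2,0,3,5,6,0,2,0,2,0,6],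
  [2,0,4,6,0,2,2,0,2,0,3,0,2,6,0,3], [4,6,0,3,0,3,0,2,6,0,3,0,3], [0,2,0,2,0,3,4,6,0,2,0,2,0,6], [2,2,0,2,2,0,3,0,2,2,0,2,2,5], [4,6,0,3,0,3,0,6,2,0,3,0,3], [2,0,3,6,0,3,0,2,0,6,0,2,0,2,0,3],
  [0,2,0,2,0,3,5,6,0,2,0,2,0,6], [2,2,0,2,2,0,3,0,2,2,0,2,2,4], [2,0,6,0,2,2,0,2,0,3,0,6,2,0,3], [6,0,3,0,3,0,6,2,0,3,0,3], [0,2,0,2,0,6,3,0,2,0,2,0,6], [2,2,0,2,2,0,3,0,2,2,0,2,2],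
  [0,6,0,3,0,3,0,2,6,0,3,0,3], [2,0,6,3,0,2,0,3,0,2,2,0,6,0,3], [3,0,2,2,0,2,2,6,0,2,0,3,0,6], [2,0,2,0,3,6,0,2,0,2,0,6], [2,0,6,0,2,2,0,2,0,3,0,2,6,0,3], [6,0,3,0,3,0,2,6,0,3,0,3],
  [0,2,0,2,0,3,6,0,2,0,2,0,6], [6,0,2,0,3,0,2,2,6,0,2,2,0,2]]

noncomputable def do0 : List (List ℕ) := [
  [4,6,0,2,2,0,2,2,6,0,2,2,6], [0,2,0,2,0,2,2,6,0,2,2,6,0,2,6,0,3], [2,5,6,0,3,0,2,0,2,2,0,2,0,2], [2,0,6,0,2,2,6,0,2,0,6,3,0,2], [4,6,0,2,2,0,2,2,6,0,2,6,2], [0,2,0,2,0,2,2,6,0,2,2,6,0,6,2,0,3],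
  [2,4,6,0,3,0,2,0,2,2,0,2,0,2], [2,0,6,0,2,2,6,0,2,0,3,6,0,2], [2,6,0,3,0,3,0,6,0,3,0,6,2,0,2], [0,2,2,4,6,0,2,2,6,0,2,2,6], [3,0,3,0,2,2,0,2,6,0,2,2,0,2], [3,0,6,0,2,0,2,6,0,3,0,2,0,2,6,2],
  [6,0,2,2,0,2,2,6,0,2,6,2], [3,0,2,0,2,2,6,0,3,0,3,0,3,6,0,2,6], [2,6,0,3,0,2,0,2,2,0,2,0,2], [0,2,0,3,6,0,2,6,0,3,0,3,0,3,6], [6,0,2,2,0,2,2,6,0,2,2,6], [6,2,0,3,0,2,0,2,2,0,2,0,2],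
  [3,0,2,0,2,2,6,0,3,0,3,0,3,6,0,6,2], [0,2,0,3,6,0,2,6,0,3,0,3,0,6,3], [2,2,4,6,0,2,2,6,0,2,2,0,6], [0,2,5,6,0,3,0,2,0,2,2,0,2,0,2], [2,0,2,0,2,2,6,0,2,2,6,0,2,6,0,3], [0,2,0,6,0,2,2,6,0,2,0,6,3,0,2],
  [0,2,6,0,2,0,2,0,3,6,0,6,2,0,3], [2,0,3,0,3,0,2,2,0,2,0,2,0,3,5,6], [2,2,0,3,4,6,0,2,2,0,6,3,0,3,0,6], [0,3,0,3,0,2,2,0,3,0,2,0,6,3], [0,2,0,6,0,2,2,6,0,2,0,3,6,0,2], [2,2,4,6,0,2,6,2,0,2,2,0,6],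
  [0,2,4,6,0,3,0,2,0,2,2,0,2,0,2], [2,0,2,0,2,2,6,0,2,2,6,0,6,2,0,3], [6,0,2,0,6,0,2,2,0,2,0,6,3,0,2], [0,2,2,6,0,2,2,6,0,2,6,2], [3,0,3,0,2,2,0,2,4,6,0,2,2,0,2], [3,0,2,2,0,6,2,0,2,2,0,2,0,2,0,3],
  [3,6,0,2,2,0,2,0,3,0,2,0,2,0,2], [0,2,2,6,0,2,2,6,0,2,2,6], [3,0,2,2,0,2,6,0,2,2,0,2,0,2,0,3], [3,0,3,0,2,2,0,2,5,6,0,2,2,0,2], [0,2,6,0,3,0,3,0,6,0,3,0,6,2,0,2], [2,2,4,6,0,2,2,6,0,2,2,6],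
  [2,0,3,6,0,2,0,2,0,3,0,3,6,0,2,6], [0,3,0,3,0,2,2,0,2,6,0,2,2,0,2], [2,2,6,0,2,6,2,0,2,2,0,6], [2,0,3,6,0,2,6,0,3,0,3,0,3,6], [0,2,6,0,3,0,2,0,2,2,0,2,0,2], [2,0,2,0,2,2,4,6,0,2,2,6,0,2,6,0,3],
  [2,2,6,0,2,2,6,0,2,2,0,6], [2,0,3,6,0,2,6,0,3,0,3,0,6,3], [0,6,2,0,3,0,2,0,2,2,0,2,0,2], [2,0,2,0,2,2,4,6,0,2,2,6,0,6,2,0,3], [2,0,6,0,2,0,3,0,6,0,3,0,3,0,2,6], [2,6,0,2,0,2,0,3,6,0,2,6,0,3],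
  [4,6,0,2,0,2,6,0,2,2,0,2,6,0,2,2], [3,0,3,0,2,2,0,3,0,2,0,3,6], [3,0,2,6,0,3,0,2,2,0,6,0,3,6], [2,2,0,3,6,0,2,2,0,3,6,0,3,0,6], [0,3,0,3,0,2,2,0,3,0,2,0,3,5,6], [2,0,3,0,3,0,2,2,0,2,0,2,0,3,6],
  [3,0,2,6,0,3,0,2,2,0,6,0,6,3], [2,0,3,0,3,0,2,2,0,2,0,2,0,6,3], [0,3,0,3,0,2,2,0,3,0,2,0,3,4,6], [2,2,0,3,6,0,2,2,0,6,3,0,3,0,6], [2,6,0,2,0,2,0,3,6,0,6,2,0,3], [2,0,6,0,2,0,3,0,6,0,3,0,3,0,6,2],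
  [4,6,0,2,0,2,6,0,2,2,0,6,2,0,2,2], [3,0,3,0,2,2,0,3,0,2,0,6,3], [0,2,6,0,2,0,2,0,3,6,0,2,6,0,3], [2,0,3,0,3,0,2,2,0,2,0,2,0,3,4,6], [2,2,0,3,4,6,0,2,2,0,3,6,0,3,0,6], [0,3,0,3,0,2,2,0,3,0,2,0,3,6],
  [0,2,2,4,6,0,2,2,6,0,2,6,2], [2,6,0,3,0,3,0,6,0,3,0,2,6,0,2], [3,0,3,0,2,2,0,6,2,0,2,2,0,2], [3,0,6,0,2,0,2,6,0,3,0,2,0,2,2,6], [0,6,0,2,0,6,0,2,2,0,2,0,6,3,0,2], [2,2,6,0,2,2,6,0,2,6,2],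
  [2,0,3,0,3,0,2,2,0,6,3,0,2,2,0,2], [2,0,3,6,0,2,2,6,0,2,0,2,0,6,2], [0,3,6,0,2,2,0,2,0,3,0,2,0,2,0,2], [2,2,6,0,2,2,6,0,2,2,6], [2,0,3,0,3,0,2,2,0,3,6,0,2,2,0,2], [2,0,3,6,0,2,2,6,0,2,0,2,0,2,6],
  [0,3,0,2,6,0,3,0,2,2,0,6,0,6,3], [3,0,2,0,2,0,2,2,6,0,3,0,3,0,2], [3,0,3,0,2,2,0,3,0,2,0,3,4,6], [6,0,2,0,2,6,0,2,2,0,6,2,0,2,2], [3,0,2,0,2,0,2,6,2,0,3,0,3,0,2], [0,3,0,2,6,0,3,0,2,2,0,6,0,3,6],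
  [6,0,2,0,2,6,0,2,2,0,2,6,0,2,2], [3,0,3,0,2,2,0,3,0,2,0,3,5,6], [0,3,0,4,6,0,2,0,6,0,3,0,6,0,2], [3,0,3,6,0,2,0,6,0,2,0,2,0,6,3], [2,2,0,2,2,0,2,5,6,0,2,2,0,2,2], [0,3,0,2,2,0,3,6,0,2,2,0,2,0,2],
  [0,3,0,5,6,0,2,0,6,0,3,0,6,0,2], [3,0,3,6,0,2,0,6,0,2,0,2,0,3,6], [2,2,0,2,2,0,2,4,6,0,2,2,0,2,2], [0,3,0,2,2,0,6,3,0,2,2,0,2,0,2], [2,2,4,6,0,2,2,6,0,2,6,2], [0,2,6,0,3,0,3,0,6,0,3,0,2,6,0,2],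
  [2,0,3,6,0,2,0,2,0,3,0,3,6,0,6,2], [0,3,0,3,0,2,2,0,6,2,0,2,2,0,2], [0,3,0,6,0,2,0,6,0,3,0,6,0,2], [3,0,3,0,3,0,2,0,3,0,2,2,0,6,2], [3,6,0,3,0,3,0,2,2,6,0,6,2,0,3], [2,2,0,2,2,0,6,2,0,2,2,0,2,2],
  [0,2,2,0,3,0,2,0,6,0,3,0,2,0,2,2], [3,0,2,6,0,3,0,2,2,0,6,0,3,0,6], [2,2,0,2,2,0,2,6,0,2,2,0,2,2], [3,6,0,3,0,3,0,2,2,6,0,2,6,0,3], [3,0,4,6,0,2,0,6,0,3,0,6,0,2], [2,2,0,2,2,0,3,5,6,0,2,2,0,2,2],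
  [3,0,2,2,0,3,6,0,2,2,0,2,0,2], [0,3,0,3,6,0,2,0,6,0,2,0,2,0,6,3], [3,0,5,6,0,2,0,6,0,3,0,6,0,2], [2,2,0,2,2,0,3,4,6,0,2,2,0,2,2], [3,0,2,2,0,6,3,0,2,2,0,2,0,2], [0,3,0,3,6,0,2,0,6,0,2,0,2,0,3,6],
  [3,0,6,0,2,0,6,0,3,0,6,0,2], [3,0,2,2,0,3,5,6,0,2,2,0,2,0,2], [0,3,0,3,0,3,0,2,0,3,0,2,2,0,6,2], [2,2,0,2,2,0,6,3,0,2,2,0,2,2], [2,2,0,3,0,2,0,6,0,3,0,2,0,2,2], [0,3,0,2,6,0,3,0,2,2,0,6,0,3,0,6],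
  [2,2,0,2,2,0,3,6,0,2,2,0,2,2], [3,0,2,2,0,3,4,6,0,2,2,0,2,0,2]]

noncomputable def ow0 : List (ℕ × List ℕ) := [
  (0,[2,2,0,3,0,2,0,2,0,3,0,2,0,2,2]), (0,[3,0,3,0,2,0,2,2,0,2,0,2,2]), (1,[2,2,0,2,0,2,2,0,3]), (1,[2,2,0,3,0,2,0,2,0,3,0,2,0,2,2]), (1,[3,0,3,0,2,0,2,2,0,2,0,2,2]), (0,[2,2,0,2,0,3,0,2,2,0,2,0,2,2]),
  (1,[]), (0,[3,0,2,0,3,0,2,0,3]), (0,[0,3,0,2,6,0,2,0,3,0,3,0,6,2]), (0,[2,2,0,2,0,2,2,0,3]), (1,[2,0,2,0,2,2]), (1,[2,2,0,2,0,3,0,2,2,0,2,0,2,2]),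
  (1,[3,0,2,0,3,0,2,0,3]), (1,[2,0,2,2,0,2,0,3,0,2,2]), (0,[3,0,3,0,2,0,2,0,3,0,2,2]), (0,[]), (1,[3,0,3,0,3]), (1,[3,0,3,0,2,0,2,0,3,0,2,2]),
  (1,[0,3,0,2,6,0,2,0,3,0,3,0,6,2]), (0,[3,6,0,2,2,6,0,3,0,6,0,6,3,0]), (0,[2,0,2,0,2,2]), (0,[3,0,3,0,3]), (0,[2,0,2,2,0,2,0,3,0,2,2]), (1,[3,6,0,3,0,2,2,0,6,0,2]),
  (1,[2,2,0,3,0,2,0,3]), (1,[3,6,0,2,2,6,0,3,0,6,0,6,3,0]), (0,[3,6,0,3,0,2,2,0,6,0,2]), (0,[2,2,0,3,0,2,0,3]), (1,[0,3,6,0,2,2,0,2,0,2,2,6,0,2]), (1,[3,0,2,0,3,0,2,2,0,2,2]),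
  (0,[0,3,6,0,2,2,0,2,0,2,2,6,0,2]), (0,[3,0,2,0,3,0,2,2,0,2,2])]

noncomputable def reps0 : List OutRep := [
  ⟨[2,0,3,0,3,0,2,2,0,2,0,2,0,6,3], [0,3,0,6,0,6,2], [2,0,2,0,2], [[2,2,6,0,2,2,6,0,2,2,0,6]]⟩,
  ⟨[2,0,3,0,3,0,2,2,0,2,0,2,0,3,5,6], [0,3,0,6,0,6,2], [2,0,2,0,2], [[2,2,4,6,0,2,2,6,0,2,2,0,6]]⟩]

/-- The lists. -/
noncomputable def dat0 : Dat := ⟨de0, do0, ow0, reps0⟩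

noncomputable def small0 : List (List ℕ) := [
  [1,24,37,8,0,9,10,2], [1,37,24,8,0,9,10,2], [37,1,8,24,9,0,2,10], [24,1,8,37,9,0,2,10], [24,8,1,37,0,9,10,2], [37,8,1,24,0,9,10,2],
  [1,24,37,10,2,8,0,9], [1,37,24,10,2,8,0,9], [8,37,24,1,9,0,2,10], [8,24,37,1,9,0,2,10], [37,1,8,24,2,10,9,0], [24,1,8,37,2,10,9,0],
  [24,8,1,37,10,2,0,9], [37,8,1,24,10,2,0,9], [2,9,10,1,8,0,24,37], [2,9,10,1,8,0,37,24], [10,0,2,8,1,9,37,24], [10,0,2,8,1,9,24,37],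
  [8,37,24,2,10,1,9,0], [8,24,37,2,10,1,9,0], [10,2,0,9,1,8,37,24], [10,2,0,9,1,8,24,37], [2,10,9,0,8,1,24,37], [2,10,9,0,8,1,37,24],
  [9,2,0,10,37,24,1,8], [9,2,0,10,24,37,1,8], [0,10,9,2,24,37,8,1], [0,10,9,2,37,24,8,1], [0,9,10,2,24,37,1,8], [0,9,10,2,37,24,1,8],
  [9,0,2,10,24,37,8,1], [9,0,2,10,37,24,8,1]]

theorem smallOk0 : dat0.smallOk (0 : Fin 12) cert0 small0 = true := by decide +kernel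

theorem dok0 : dat0.Ok (0 : Fin 12) cert0 :=
  ⟨by decide +kernel, ⟨_, smallOk0⟩, by decide +kernel, by decide +kernel, by decide +kernel⟩

theorem fourth0 : Dat.cnt4 (0 : Fin 12) cert0 dat0.Do [4, 4] = 0 := by decide +kernel

theorem roots0 : Dat.cnt2 (0 : Fin 12) cert0 dat0.Do [4, 4] = 0 ∧
    Dat.cnt2 (0 : Fin 12) cert0 dat0.Do [0] = 16 := by decide +kernel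

theorem noTypeB0 : dat0.noTypeBOk (0 : Fin 12) cert0 = true := by decide +kernel

end CfsgLib.StdON.ModelData
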