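import Cfsg.Agent.Lib.ONanRec.PinData.C1
import Cfsg.Agent.Lib.StdON.ModelCheck

/-!
The lists for candidate 1 (generated).
-/

set_option autoImplicit false
set_option maxRecDepth 100000
set_option maxHeartbeats 4000000

namespace CfsgLib.StdON.ModelData

open ONanRec.PinData

noncomputable def de1 : List (List ℕ) := [
  [], [2,2,0,3,6,0,3,6,0,3,6,0,2,6], [0], [3,6,0,3,6,0,2,2,0,2,6,0,2,7], [0,3,0,2,0,3,0,2,0,3], [0,6,0,2,6,0,2,0,3,6,0,2,0,2,0,7],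
  [4], [2,6,0,3,0,2,2,7,0,2,2,0,2], [5], [2,6,0,3,0,2,2,6,0,2,2,0,2], [0,4], [0,2,6,0,3,0,2,2,7,0,2,2,0,2],
  [0,5], [0,2,6,0,3,0,2,2,6,0,2,2,0,2], [6,0,2,6,0,2,0,3,6,0,2,0,2,0,7], [3,0,2,0,3,0,2,0,3], [0,3,0,2,0,3,0,2,0,3,4], [6,0,3,0,3,0,2,6,0,3,0,3,6,0,6],
  [0,3,0,2,0,3,0,2,0,3,5], [6,0,3,0,3,0,2,6,0,3,0,3,6,0,7], [4,4], [2,2,0,3,6,0,3,6,0,3,6,0,2,7], [0,4,4], [3,6,0,3,6,0,2,2,0,2,6,0,2,6],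
  [0,6,0,3,0,3,0,2,6,0,3,0,3], [0,6,0,2,7,0,3,0,2,0,3,0,2], [0,2,0,6,0,3,0,2,0,6,0,3], [0,2,0,2,0,2,0,4,6,0,3,7,0,3,0,3], [3,0,2,0,3,0,2,0,3,4], [0,6,0,3,0,3,0,2,6,0,3,0,3,6,0,6],
  [3,0,2,0,3,0,2,0,3,5], [0,6,0,3,0,3,0,2,6,0,3,0,3,6,0,7], [0,3,0,2,0,3,0,2,0,3,4,4], [0,6,0,2,6,0,2,0,3,6,0,2,0,2,0,6], [2,2,0,2,2,0,2,0,2,2,0,2,2,5], [6,0,6],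
  [2,2,0,2,2,0,2,0,2,2,0,2,2,4], [6,0,7], [0,3,6,0,3,0,2,7,0,3,0,3], [2,0,3,0,2,0,3,0,2], [2,2,0,2,2,0,3,0,2,2,0,2,2,5], [0,6,0,6],
  [2,2,0,2,2,0,3,0,2,2,0,2,2,4], [0,6,0,7], [6,0,3,0,3,0,2,6,0,3,0,3], [6,0,2,7,0,3,0,2,0,3,0,2], [0,4,6,0,3,0,3,0,2,6,0,3,0,3], [3,0,2,0,3,0,2,0,3,6,0,7],
  [0,4,6,0,3,0,3,0,2,7,0,3,0,3], [3,0,2,0,3,0,2,0,3,6,0,6], [2,0,6,0,3,0,2,0,6,0,3], [2,0,2,0,2,0,4,6,0,3,7,0,3,0,3], [0,2,0,4,6,0,3,0,2,0,6,0,3], [0,2,0,2,0,2,0,6,0,3,6,0,3,0,3],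
  [0,2,0,4,6,0,3,0,2,0,7,0,3], [0,2,0,2,0,2,0,6,0,3,7,0,3,0,3], [6,0,2,6,0,2,0,3,6,0,2,0,2,0,6], [3,0,2,0,3,0,2,0,3,4,4], [4,6,0,3,0,3,0,2,7,0,3,0,3], [0,3,0,2,0,3,0,2,0,3,6,0,6],
  [4,6,0,3,0,3,0,2,6,0,3,0,3], [0,3,0,2,0,3,0,2,0,3,6,0,7], [2,2,0,2,2,0,2,0,2,2,0,2,2], [4,6,0,6], [3,0,2,2,0,2,2,6,0,2,0,3,0,7], [4,6,0,7],
  [0,2,0,3,0,2,0,3,0,2], [3,6,0,3,0,2,7,0,3,0,3], [2,0,3,0,2,0,3,0,2,4], [2,0,2,0,3,6,0,2,0,2,7], [2,0,3,0,2,0,3,0,2,5], [2,0,2,0,3,6,0,2,0,2,6],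
  [2,2,0,2,2,0,3,0,2,2,0,2,2], [0,4,6,0,6], [6,0,2,0,3,0,2,2,7,0,2,2,0,2], [0,4,6,0,7], [0,2,0,2,0,3,4,6,0,2,0,2,0,6], [0,2,0,3,0,2,0,3,0,2,6,0,7],
  [0,6,0,3,0,3,0,2,7,0,3,0,3], [0,6,0,2,6,0,3,0,2,0,3,0,2], [2,0,4,6,0,3,0,2,0,6,0,3], [2,0,2,0,2,0,6,0,3,6,0,3,0,3], [2,0,4,6,0,3,0,2,0,7,0,3], [2,0,2,0,2,0,6,0,3,7,0,3,0,3],
  [0,2,0,6,0,3,0,2,0,7,0,3], [0,2,0,2,0,2,0,4,6,0,3,6,0,3,0,3], [6,0,3,0,3,0,2,7,0,3,0,3], [6,0,2,6,0,3,0,2,0,3,0,2], [0,2,0,2,0,3,6,0,2,0,2,0,7], [6,0,3,7,0,2,0,3,0,2,0,3],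
  [0,2,0,2,0,3,6,0,2,0,2,0,6], [6,0,3,6,0,2,0,3,0,2,0,3], [0,2,0,3,0,2,0,3,0,2,4], [0,2,0,2,0,3,6,0,2,0,2,7], [0,2,0,3,0,2,0,3,0,2,5], [0,2,0,2,0,3,6,0,2,0,2,6],
  [0,3,6,0,3,0,2,6,0,3,0,3], [2,0,3,0,2,0,3,0,2,4,4], [2,0,3,6,0,3,0,2,0,7,0,2,0,2,0,3], [0,2,0,6,0,3,0,2,0,6,0,3,6,0,6], [2,0,2,0,3,4,6,0,2,0,2,0,6], [2,0,3,0,2,0,3,0,2,6,0,7],
  [2,0,6,0,3,0,2,0,7,0,3], [2,0,2,0,2,0,4,6,0,3,6,0,3,0,3], [2,0,3,6,0,3,0,2,0,6,0,2,0,2,0,3], [0,2,0,6,0,3,0,2,0,6,0,3,6,0,7], [0,2,0,2,0,3,4,6,0,2,0,2,0,7], [0,2,0,3,0,2,0,3,0,2,6,0,6],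
  [2,0,2,0,3,6,0,2,0,2,0,7], [0,6,0,3,7,0,2,0,3,0,2,0,3], [2,0,2,0,3,6,0,2,0,2,0,6], [0,6,0,3,6,0,2,0,3,0,2,0,3], [2,0,3,6,0,2,0,3,0,2,2,0,6,0,3], [2,0,2,2,6,0,3,0,2,0,2,2,7,0,3],
  [2,0,3,6,0,2,0,3,0,2,2,0,7,0,3], [2,0,2,2,6,0,3,0,2,0,2,2,6,0,3], [0,2,0,3,0,2,0,3,0,2,4,4], [3,6,0,3,0,2,6,0,3,0,3], [2,0,2,0,3,4,6,0,2,0,2,0,7], [2,0,3,0,2,0,3,0,2,6,0,6],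
  [2,0,3,0,3,0,6,0,3,0,2,0,2,7,0,3], [2,0,6,0,3,0,2,0,6,0,3,6,0,6], [2,0,6,0,2,2,0,2,0,3,0,2,7,0,3], [3,0,3,0,2,0,2,0,3,0,3,0,2,0,2], [2,0,6,0,2,2,0,2,0,3,0,2,6,0,3], [0,2,0,2,2,6,0,3,0,2,0,2,2,6,0,3],
  [2,0,3,0,3,0,6,0,3,0,2,0,2,6,0,3], [2,0,6,0,3,0,2,0,6,0,3,6,0,7]]

noncomputable def do1 : List (List ℕ) := [
  [2,0,2,0,2,2,6,0,2,2,6,0,2,6,0,3], [3,0,6,0,2,0,6,0,3,0,7,0,2], [3,0,6,0,2,0,6,0,3,0,6,0,2], [2,0,2,0,2,2,6,0,2,2,6,0,2,7,0,3], [3,0,2,0,2,0,2,2,6,0,3,0,3,0,2], [2,0,3,6,0,2,0,2,0,3,0,3,6,0,2,6],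
  [3,0,2,0,2,0,2,2,7,0,3,0,3,0,2], [2,0,3,6,0,2,0,2,0,3,0,3,6,0,2,7], [0,3,0,3,0,2,2,0,3,0,2,0,3,6], [0,2,6,0,3,0,3,0,6,0,3,0,2,6,0,2], [0,3,0,3,0,2,2,0,3,0,2,0,3,7], [0,2,6,0,3,0,3,0,6,0,3,0,2,7,0,2],
  [3,0,4,6,0,2,0,6,0,3,0,7,0,2], [2,0,2,0,2,2,4,6,0,2,2,6,0,2,6,0,3], [2,0,2,0,2,2,4,6,0,2,2,6,0,2,7,0,3], [3,0,4,6,0,2,0,6,0,3,0,6,0,2], [0,2,0,2,0,2,2,6,0,2,2,6,0,2,6,0,3], [0,3,0,6,0,2,0,6,0,3,0,7,0,2],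
  [0,3,0,6,0,2,0,6,0,3,0,6,0,2], [0,2,0,2,0,2,2,6,0,2,2,6,0,2,7,0,3], [2,0,6,0,2,0,3,0,6,0,3,0,3,0,2,6], [2,0,3,0,3,0,2,2,0,3,6,0,2,2,0,2], [2,0,6,0,2,0,3,0,6,0,3,0,3,0,2,7], [2,0,3,0,3,0,2,2,0,3,7,0,2,2,0,2],
  [2,0,3,0,3,0,2,2,0,2,0,2,0,3,7], [3,0,6,0,2,0,2,6,0,3,0,2,0,2,2,7], [2,0,3,0,3,0,2,2,0,2,0,2,0,3,6], [3,0,6,0,2,0,2,6,0,3,0,2,0,2,2,6], [0,2,4,7,0,3,0,2,0,2,2,0,2,0,2], [0,3,0,2,2,0,3,7,0,2,2,0,2,0,2],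
  [0,2,4,6,0,3,0,2,0,2,2,0,2,0,2], [0,3,0,2,2,0,3,6,0,2,2,0,2,0,2], [0,3,0,3,0,2,2,0,3,0,2,0,3,4,6], [0,3,7,0,2,2,0,2,0,3,0,2,0,2,0,2], [0,3,0,3,0,2,2,0,3,0,2,0,3,4,7], [0,3,6,0,2,2,0,2,0,3,0,2,0,2,0,2],
  [3,0,3,0,2,2,0,3,0,2,0,3,6], [2,6,0,3,0,3,0,6,0,3,0,2,6,0,2], [3,0,3,0,2,2,0,3,0,2,0,3,7], [2,6,0,3,0,3,0,6,0,3,0,2,7,0,2], [0,3,0,4,6,0,2,0,6,0,3,0,7,0,2], [3,0,2,0,2,2,6,0,3,0,3,0,3,6,0,2,6],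
  [3,0,2,0,2,2,6,0,3,0,3,0,3,6,0,2,7], [0,3,0,4,6,0,2,0,6,0,3,0,6,0,2], [2,0,3,0,3,0,2,2,0,2,0,2,0,3,4,7], [3,0,2,2,0,2,6,0,2,2,0,2,0,2,0,3], [2,0,3,0,3,0,2,2,0,2,0,2,0,3,4,6], [3,0,2,2,0,2,7,0,2,2,0,2,0,2,0,3],
  [2,7,0,3,0,2,0,2,2,0,2,0,2], [3,0,2,2,0,3,4,6,0,2,2,0,2,0,2], [3,0,2,2,0,3,4,7,0,2,2,0,2,0,2], [2,6,0,3,0,2,0,2,2,0,2,0,2], [0,3,0,2,6,0,3,0,2,2,0,6,0,3,0,7], [0,2,0,3,6,0,2,6,0,3,0,3,0,3,7],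
  [0,3,0,2,6,0,3,0,2,2,0,6,0,3,0,6], [0,2,0,3,6,0,2,6,0,3,0,3,0,3,6], [3,6,0,3,0,3,0,2,2,6,0,2,6,0,3], [0,2,6,0,3,0,2,0,2,2,0,2,0,2], [0,2,7,0,3,0,2,0,2,2,0,2,0,2], [3,6,0,3,0,3,0,2,2,6,0,2,7,0,3],
  [3,0,2,2,0,3,7,0,2,2,0,2,0,2], [2,4,7,0,3,0,2,0,2,2,0,2,0,2], [3,0,2,2,0,3,6,0,2,2,0,2,0,2], [2,4,6,0,3,0,2,0,2,2,0,2,0,2], [3,0,3,0,2,2,0,3,0,2,0,3,4,6], [3,7,0,2,2,0,2,0,3,0,2,0,2,0,2],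
  [3,0,3,0,2,2,0,3,0,2,0,3,4,7], [3,6,0,2,2,0,2,0,3,0,2,0,2,0,2], [2,2,4,6,0,2,2,6,0,2,2,0,7], [2,2,0,2,2,0,3,7,0,2,2,0,2,2], [2,2,0,2,2,0,3,6,0,2,2,0,2,2], [2,2,4,6,0,2,2,6,0,2,2,0,6],
  [2,2,0,3,4,6,0,2,2,0,3,6,0,3,0,6], [0,2,2,6,0,2,2,6,0,2,2,6], [2,2,0,3,4,6,0,2,2,0,3,6,0,3,0,7], [0,2,2,6,0,2,2,6,0,2,2,7], [0,3,0,2,6,0,3,0,2,2,0,6,0,3,7], [3,0,3,0,2,2,0,2,4,6,0,2,2,0,2],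
  [0,3,0,2,6,0,3,0,2,2,0,6,0,3,6], [3,0,3,0,2,2,0,2,4,7,0,2,2,0,2], [0,3,0,3,6,0,2,0,6,0,2,0,2,0,3,7], [2,0,6,0,2,2,6,0,2,0,3,7,0,2], [0,3,0,3,6,0,2,0,6,0,2,0,2,0,3,6], [2,0,6,0,2,2,6,0,2,0,3,6,0,2],
  [2,0,3,6,0,2,6,0,3,0,3,0,3,7], [3,0,2,6,0,3,0,2,2,0,6,0,3,0,7], [2,0,3,6,0,2,6,0,3,0,3,0,3,6], [3,0,2,6,0,3,0,2,2,0,6,0,3,0,6], [2,2,6,0,2,2,6,0,2,2,0,6], [2,2,0,2,2,0,3,4,7,0,2,2,0,2,2],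
  [2,2,0,2,2,0,3,4,6,0,2,2,0,2,2], [2,2,6,0,2,2,6,0,2,2,0,7], [4,6,0,2,2,0,2,2,6,0,2,2,7], [2,2,0,2,2,0,2,7,0,2,2,0,2,2], [2,2,0,2,2,0,2,6,0,2,2,0,2,2], [4,6,0,2,2,0,2,2,6,0,2,2,6],
  [0,2,6,0,2,0,2,0,3,6,0,2,7,0,3], [0,3,0,3,0,2,2,0,2,7,0,2,2,0,2], [0,2,6,0,2,0,2,0,3,6,0,2,6,0,3], [0,3,0,3,0,2,2,0,2,6,0,2,2,0,2], [6,0,2,2,0,2,2,6,0,2,2,6], [2,2,0,2,2,0,2,4,7,0,2,2,0,2,2],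
  [2,2,0,2,2,0,2,4,6,0,2,2,0,2,2], [6,0,2,2,0,2,2,6,0,2,2,7], [2,2,0,3,6,0,2,2,0,3,6,0,3,0,7], [0,2,2,4,6,0,2,2,6,0,2,2,6], [2,2,0,3,6,0,2,2,0,3,6,0,3,0,6], [0,2,2,4,6,0,2,2,6,0,2,2,7],
  [4,6,0,2,0,2,6,0,2,2,0,2,6,0,2,2], [2,2,6,0,2,2,6,0,2,2,6], [4,6,0,2,0,2,6,0,2,2,0,2,7,0,2,2], [2,2,6,0,2,2,6,0,2,2,7], [2,6,0,2,0,2,0,3,6,0,2,7,0,3], [3,0,3,0,2,2,0,2,7,0,2,2,0,2],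
  [2,6,0,2,0,2,0,3,6,0,2,6,0,3], [3,0,3,0,2,2,0,2,6,0,2,2,0,2], [3,0,2,6,0,3,0,2,2,0,6,0,3,7], [2,0,3,6,0,2,2,6,0,2,0,2,0,2,6], [3,0,2,6,0,3,0,2,2,0,6,0,3,6], [2,0,3,6,0,2,2,6,0,2,0,2,0,2,7],
  [0,2,0,6,0,2,2,6,0,2,0,3,7,0,2], [3,0,3,6,0,2,0,6,0,2,0,2,0,3,7], [0,2,0,6,0,2,2,6,0,2,0,3,6,0,2], [3,0,3,6,0,2,0,6,0,2,0,2,0,3,6], [6,0,2,0,2,6,0,2,2,0,2,7,0,2,2], [2,2,4,6,0,2,2,6,0,2,2,6],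
  [6,0,2,0,2,6,0,2,2,0,2,6,0,2,2], [2,2,4,6,0,2,2,6,0,2,2,7]]

noncomputable def ow1 : List (ℕ × List ℕ) := [
]

noncomputable def reps1 : List OutRep := [
]

/-- The lists. -/
noncomputable def dat1 : Dat := ⟨de1, do1, ow1, reps1⟩

noncomputable def small1 : List (List ℕ) := [
  [0,6,39,26,38,4,16,7], [6,0,39,26,38,16,4,7], [16,4,0,6,39,7,26,38], [4,16,6,0,39,7,26,38], [0,6,16,4,39,26,38,7], [6,0,4,16,39,26,38,7],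
  [26,4,16,0,6,39,7,38], [26,16,4,6,0,39,7,38], [39,0,6,26,4,16,38,7], [39,6,0,26,16,4,38,7], [38,7,0,6,4,16,26,39], [38,7,6,0,16,4,26,39],
  [16,4,26,0,6,39,7,38], [4,16,26,6,0,39,7,38], [39,26,16,4,0,6,7,38], [39,26,4,16,6,0,7,38], [26,39,4,16,0,6,7,38], [26,39,16,4,6,0,7,38],
  [38,7,39,0,6,16,4,26], [38,7,39,6,0,4,16,26], [38,7,0,6,39,4,16,26], [38,7,6,0,39,16,4,26], [38,26,7,39,0,6,4,16], [38,26,7,39,6,0,16,4],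
  [7,38,16,4,0,6,26,39], [7,38,4,16,6,0,26,39], [38,7,39,26,0,6,16,4], [38,7,39,26,6,0,4,16], [7,16,4,38,26,39,0,6], [7,4,16,38,26,39,6,0],
  [7,38,26,4,16,39,0,6], [7,38,26,16,4,39,6,0]]

theorem smallOk1 : dat1.smallOk (1 : Fin 12) cert1 small1 = true := by decide +kernel

theorem dok1 : dat1.Ok (1 : Fin 12) cert1 :=
  ⟨by decide +kernel, ⟨_, smallOk1⟩, by decide +kernel, by decide +kernel, by decide +kernel⟩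

theorem fourth1 : Dat.cnt4 (1 : Fin 12) cert1 dat1.Do [4, 4] = 0 := by decide +kernel

theorem roots1 : Dat.cnt2 (1 : Fin 12) cert1 dat1.Do [4, 4] = 32 ∧
    Dat.cnt2 (1 : Fin 12) cert1 dat1.Do [0] = 16 := by decide +kernel

end CfsgLib.StdON.ModelData
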