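import Cfsg.Agent.Lib.ONanRec.PinData.C11
import Cfsg.Agent.Lib.StdON.ModelCheck

/-!
The lists for candidate 11 (generated).
-/

set_option autoImplicit false
set_option maxRecDepth 100000
set_option maxHeartbeats 4000000

namespace CfsgLib.StdON.ModelData

open ONanRec.PinData

noncomputable def de11 : List (List ℕ) := [
  [], [0,3,0,3,6,0,6,2,0,2], [0], [3,0,3,6,0,6,2,0,2], [4], [0,3,0,3,4,6,0,6,2,0,2],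
  [5], [0,3,0,3,4,6,0,7,2,0,2], [0,4], [3,0,3,4,6,0,6,2,0,2], [0,5], [3,0,3,4,6,0,7,2,0,2],
  [0,2,0,3,0,2,0,3,0,2,4], [0,3,6,3,0,3,0,6,2,0,2,2], [0,2,0,3,0,2,0,3,0,2,5], [0,3,6,3,0,3,0,7,2,0,2,2], [4,4], [0,3,0,3,6,0,7,2,0,2],
  [3,0,2,0,3,0,2,0,3,4], [2,0,3,6,2,6,2,6,0,6,0,3], [0,4,4], [3,0,3,6,0,7,2,0,2], [2,2,0,3,6,0,2,0,2,6,2], [0,2,0,3,0,2,0,3,0,2],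
  [0,2,0,6,0,6,3,6,3,6,2,0,3], [2,2,6,0,6,3,0,6,0,3,7], [0,2,0,6,0,6,3,6,3,7,2,0,3], [3,0,2,0,3,0,2,0,3], [2,2,0,3,6,0,2,0,2,7,2], [0,2,0,3,0,2,0,3,0,2,4,4],
  [3,6,3,0,3,0,6,2,0,2,2], [2,0,3,0,2,0,3,0,2,4], [3,6,3,0,3,0,7,2,0,2,2], [2,0,3,0,2,0,3,0,2,5], [2,0,3,4,6,2,7,2,0,3], [0,2,0,2,0,2,6,0,3,0,7],
  [2,0,3,6,3,6,2,0,3], [3,0,6,0,2,7,2,2], [2,0,3,6,3,7,2,0,3], [3,0,6,0,2,6,2,2], [2,0,3,4,6,2,6,2,0,3], [0,2,0,2,0,2,6,0,3,0,6],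
  [2,0,2,0,2,6,0,3,0,6], [0,2,0,3,4,6,2,6,2,0,3], [0,2,0,3,6,2,6,2,6,0,6,0,3], [0,3,0,2,0,3,0,2,0,3,4], [0,2,0,3,6,2,7,2,0,3], [0,6,0,2,0,7,3,0,3,0,3],
  [0,2,0,3,6,2,6,2,0,3], [0,6,0,2,0,6,3,0,3,0,3], [2,0,3,0,2,0,3,0,2], [0,2,2,0,3,6,0,2,0,2,6,2], [3,0,2,0,3,0,2,0,3,5], [2,0,3,6,2,6,2,6,0,7,0,3],
  [2,0,3,6,2,7,2,0,3], [6,0,2,0,7,3,0,3,0,3], [2,0,3,6,2,6,2,0,3], [6,0,2,0,6,3,0,3,0,3], [0,2,2,6,0,6,3,0,6,0,3,7], [2,0,6,0,6,3,6,3,6,2,0,3],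
  [0,3,0,2,0,3,0,2,0,3], [2,0,6,0,6,3,6,3,7,2,0,3], [2,0,3,0,2,0,3,0,2,4,4], [0,2,2,0,3,6,0,2,0,2,7,2], [0,3,0,3,6,2,6,0,6,0,7], [0,6,0,3,0,2,0,6],
  [0,3,0,3,6,2,6,0,6,0,6], [0,6,0,3,0,2,0,7], [2,0,3,4,6,3,6,2,0,3], [0,2,2,6,3,0,6,0,2], [2,0,3,4,6,3,7,2,0,3], [0,2,2,6,3,0,7,0,2],
  [0,2,0,3,6,2,2,6,2,0,3], [4,6,0,3,0,2,0,6], [0,2,0,3,6,2,2,7,2,0,3], [4,6,0,3,0,2,0,7], [2,0,2,0,2,6,0,3,0,7], [0,2,0,3,4,6,2,7,2,0,3],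
  [0,2,0,3,6,3,6,2,0,3], [0,3,0,6,0,2,7,2,2], [0,2,0,3,6,3,7,2,0,3], [0,3,0,6,0,2,6,2,2], [3,0,3,6,2,6,0,6,0,6], [6,0,3,0,2,0,7],
  [2,0,3,6,2,2,6,2,0,3], [0,4,6,0,3,0,2,0,6], [2,0,3,6,2,2,7,2,0,3], [0,4,6,0,3,0,2,0,7], [2,0,6,0,6,0,3], [2,0,3,0,2,6,0,6,0,6,2,7],
  [2,0,6,0,7,0,3], [2,0,3,0,2,6,0,6,0,6,2,6], [2,0,2,0,4,6,0,6,0,6,3,0,6], [2,0,3,6,2,7,0,2,0,3,0,2], [2,0,2,0,4,6,0,6,0,6,3,0,7], [2,0,3,6,2,6,0,2,0,3,0,2],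
  [0,2,0,2,0,6,0,6,0,6,3,0,6], [2,6,0,3,6,2,6,2,0,3,7,2], [3,0,2,0,3,0,6,2,7,2,0,3], [0,2,0,6,0,6,0,3], [3,0,2,0,3,0,6,2,6,2,0,3], [0,2,0,6,0,7,0,3],
  [0,2,0,3,6,2,6,2,6,0,7,0,3], [0,3,0,2,0,3,0,2,0,3,5], [2,0,4,6,0,6,0,3], [2,0,3,0,2,4,6,0,6,0,6,2,7], [2,2,6,3,0,7,0,2], [0,2,0,3,4,6,3,7,2,0,3],
  [2,2,6,3,0,6,0,2], [0,2,0,3,4,6,3,6,2,0,3], [2,0,4,6,0,7,0,3], [2,0,3,0,2,4,6,0,6,0,6,2,6], [3,0,3,6,2,6,0,6,0,7], [6,0,3,0,2,0,6],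
  [0,2,0,2,0,6,0,6,0,6,3,0,7], [2,6,0,3,6,2,6,2,0,3,6,2], [2,0,2,0,6,0,6,0,6,3,0,7], [3,0,2,2,0,6,2,0,6,3,0,2], [2,0,2,0,6,0,6,0,6,3,0,6], [3,0,2,2,0,6,2,0,7,3,0,2],
  [3,0,2,0,3,0,6,3,7,2,0,3], [2,0,2,0,3,0,3,6,3,0,3,7,2], [3,0,2,0,3,0,6,3,6,2,0,3], [2,0,2,0,3,0,3,6,3,0,3,6,2], [0,2,0,4,6,0,7,0,3], [2,0,6,2,6,3,0,6,0,3,0,6,3],
  [0,2,0,4,6,0,6,0,3], [2,0,6,2,6,3,0,6,0,3,0,7,3]]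

noncomputable def do11 : List (List ℕ) := [
  [6,0,2,0,3,6,3,7,3], [2,0,2,6,0,6,2,2,7,3], [0,2,4,6,2,0,3,0,6,3,6], [2,6,0,2,0,6,2,0,6,0,2], [0,2,0,3,0,4,6,0,2,0,3], [3,0,2,7,0,2,2,0,2],
  [2,4,6,2,0,3,0,6,3,7], [3,0,6,0,3,6,0,3,0,6,3], [0,2,0,3,0,4,7,0,2,0,3], [3,0,2,6,0,2,2,0,2], [2,4,6,2,0,3,0,6,3,6], [3,0,6,0,3,6,0,3,0,7,3],
  [0,6,0,2,0,3,6,3,7,3], [2,2,6,2,0,3,0,6,2,6], [0,3,0,2,2,0,6,3,0,2], [2,0,2,4,6,0,6,2,2,6,3], [0,3,0,2,2,0,7,3,0,2], [2,0,2,4,6,0,6,2,2,7,3],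
  [4,6,2,6,0,2,0,3,6,3], [3,0,4,6,2,0,6,3,0,6,3], [3,0,4,6,2,0,6,3,0,7,3], [4,6,2,6,0,2,0,3,7,3], [2,6,0,2,0,6,2,2,7,2,2], [3,6,3,0,6,0,3,0,7,0,3],
  [2,6,2,0,3,0,6,3,6], [3,6,3,0,3,0,3,6,0,7], [2,6,2,0,3,0,6,3,7], [3,6,3,0,3,0,3,6,0,6], [0,2,6,2,0,3,0,6,3,6], [6,0,6,2,0,2,0,2,6,2],
  [0,2,6,2,0,3,0,6,3,7], [6,0,6,2,0,2,0,2,7,2], [0,2,0,3,0,4,6,2,0,3,0,2], [2,0,4,6,2,2,6,0,2,6,3], [0,2,0,3,0,4,7,2,0,3,0,2], [2,0,4,6,2,2,6,0,2,7,3],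
  [0,2,0,3,0,7,0,2,0,3], [0,2,6,2,6,2,0,3,0,6], [0,2,0,3,0,6,0,2,0,3], [0,2,6,2,6,2,0,3,0,7], [2,0,3,0,4,6,0,2,0,3], [0,3,0,2,7,0,2,2,0,2],
  [0,2,4,6,2,0,3,0,6,3,7], [2,6,0,2,0,6,2,0,7,0,2], [2,0,3,0,4,7,0,2,0,3], [0,3,0,2,6,0,2,2,0,2], [3,0,2,2,0,6,3,0,2], [2,2,4,6,2,0,3,0,6,2,7],
  [3,0,2,2,0,7,3,0,2], [2,2,4,6,2,0,3,0,6,2,6], [6,3,0,2,2,6,2,2,0,2,6], [3,0,2,0,3,6,0,2,0,3], [6,3,0,2,2,6,2,2,0,2,7], [3,0,2,0,3,7,0,2,0,3],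
  [2,6,0,2,0,6,2,2,6,2,2], [3,6,3,0,6,0,3,0,6,0,3], [6,0,2,0,3,6,3,6,3], [2,0,2,6,0,6,2,2,6,3], [6,2,6,0,2,0,3,7,3], [3,0,6,2,0,6,3,0,7,3],
  [3,0,6,2,0,6,3,0,6,3], [6,2,6,0,2,0,3,6,3], [2,4,6,0,2,6,0,3,7,0,2], [0,4,6,2,6,0,2,0,3,6,3], [2,4,6,0,2,6,0,3,6,0,2], [0,4,6,2,6,0,2,0,3,7,3],
  [2,0,3,0,7,2,0,3,0,2], [0,2,0,6,2,2,6,0,2,7,3], [2,0,3,0,6,2,0,3,0,2], [0,2,0,6,2,2,6,0,2,6,3], [2,2,0,2,0,6,2,6,0,2,7], [0,3,6,3,0,6,0,3,0,7,0,3],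
  [2,6,2,0,6,3,6,0,6,3,7], [6,2,0,6,3,0,2,0,7,2], [2,6,2,0,6,3,6,0,6,3,6], [6,2,0,6,3,0,2,0,6,2], [0,2,0,3,0,7,2,0,3,0,2], [2,0,6,2,2,6,0,2,7,3],
  [0,2,0,3,0,6,2,0,3,0,2], [2,0,6,2,2,6,0,2,6,3], [2,0,3,0,4,6,2,0,3,0,2], [0,2,0,4,6,2,2,6,0,2,6,3], [2,0,3,0,4,7,2,0,3,0,2], [0,2,0,4,6,2,2,6,0,2,7,3],
  [2,0,3,0,7,0,2,0,3], [2,6,2,6,2,0,3,0,6], [2,0,3,0,6,0,2,0,3], [2,6,2,6,2,0,3,0,7], [3,6,0,3,0,2,6,0,3,6], [2,2,0,3,6,3,6,0,6],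
  [2,2,0,3,6,3,6,0,7], [3,6,0,3,0,2,6,0,3,7], [0,6,0,2,0,3,6,3,6,3], [2,2,6,2,0,3,0,6,2,7], [3,0,2,6,2,6,3,6,3,0,2], [3,0,2,0,3,4,6,0,2,0,3],
  [3,0,2,6,2,6,3,7,3,0,2], [3,0,2,0,3,4,7,0,2,0,3], [2,6,0,3,0,2,6,3,0,6,2], [0,3,0,2,0,3,6,0,2,0,3], [2,6,0,2,6,0,3,7,0,2], [0,6,2,6,0,2,0,3,6,3],
  [0,3,0,2,0,3,7,0,2,0,3], [2,6,0,3,0,2,6,3,0,7,2], [2,6,0,2,6,0,3,6,0,2], [0,6,2,6,0,2,0,3,7,3], [2,2,0,2,0,6,2,6,0,2,6], [0,3,6,3,0,6,0,3,0,6,0,3],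
  [6,2,6,0,6,2,6,0,3,7,3], [0,6,2,0,6,3,0,2,0,7,2], [6,2,6,0,6,2,6,0,3,6,3], [0,6,2,0,6,3,0,2,0,6,2], [6,0,6,2,7,2,0,2,2], [0,3,6,0,3,0,2,6,0,3,7],
  [0,3,6,0,3,0,2,6,0,3,6], [6,0,6,2,6,2,0,2,2], [2,0,6,0,2,0,6,0,2,7,2], [2,2,0,3,4,6,3,6,0,7], [2,0,6,0,2,0,6,0,2,6,2], [2,2,0,3,4,6,3,6,0,6],
  [0,3,0,2,0,3,4,6,0,2,0,3], [0,3,0,2,6,2,6,3,6,3,0,2], [0,3,0,2,6,2,6,3,7,3,0,2], [0,3,0,2,0,3,4,7,0,2,0,3], [0,2,0,6,0,2,0,6,0,2,6,2], [4,6,0,6,2,6,2,0,2,2],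
  [0,2,0,6,0,2,0,6,0,2,7,2], [4,6,0,6,2,7,2,0,2,2]]

noncomputable def ow11 : List (ℕ × List ℕ) := [
]

noncomputable def reps11 : List OutRep := [
]

/-- The lists. -/
noncomputable def dat11 : Dat := ⟨de11, do11, ow11, reps11⟩

noncomputable def small11 : List (List ℕ) := [
  [0,5,1,4,23,65,73,18], [0,4,73,65,18,1,5,23], [4,0,65,73,18,5,1,23], [5,73,65,0,4,1,18,23], [1,65,73,4,0,5,18,23], [0,4,73,65,18,5,1,23],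
  [4,0,65,73,18,1,5,23], [0,4,1,5,23,65,73,18], [4,0,5,1,23,73,65,18], [0,4,18,73,65,23,1,5], [4,0,18,65,73,23,5,1], [4,1,5,0,23,73,65,18],
  [18,23,0,4,5,1,65,73], [23,18,4,0,1,5,73,65], [73,65,1,5,23,0,4,18], [65,73,5,1,23,4,0,18], [65,1,5,73,0,4,23,18], [73,5,1,65,4,0,23,18],
  [23,5,1,18,0,4,65,73], [23,1,5,18,4,0,73,65], [18,65,73,23,0,4,5,1], [18,73,65,23,4,0,1,5], [23,0,4,1,5,18,73,65], [23,4,0,5,1,18,65,73],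
  [23,18,73,65,1,5,0,4], [23,18,65,73,5,1,4,0], [18,23,65,73,5,1,0,4], [5,1,65,73,18,23,0,4], [23,18,73,65,1,5,4,0], [1,5,73,65,18,23,4,0],
  [18,23,1,5,73,65,0,4], [18,23,5,1,65,73,4,0]]

theorem smallOk11 : dat11.smallOk (11 : Fin 12) cert11 small11 = true := by decide +kernel

theorem dok11 : dat11.Ok (11 : Fin 12) cert11 :=
  ⟨by decide +kernel, ⟨_, smallOk11⟩, by decide +kernel, by decide +kernel, by decide +kernel⟩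

theorem fourth11 : Dat.cnt4 (11 : Fin 12) cert11 dat11.Do [4, 4] = 0 := by decide +kernel

theorem roots11 : Dat.cnt2 (11 : Fin 12) cert11 dat11.Do [4, 4] = 32 ∧
    Dat.cnt2 (11 : Fin 12) cert11 dat11.Do [0] = 16 := by decide +kernel

end CfsgLib.StdON.ModelData
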