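import Cfsg.Agent.Lib.ONanRec.PinData.C2
import Cfsg.Agent.Lib.StdON.ModelCheck

/-!
The lists for candidate 2 (generated).
-/

set_option autoImplicit false
set_option maxRecDepth 100000
set_option maxHeartbeats 4000000

namespace CfsgLib.StdON.ModelData

open ONanRec.PinData

noncomputable def de2 : List (List ℕ) := [
  [], [2,6,3,0,3,6,0,6,3,6], [0,2,2,0,6,3,0,2,6,0,3], [0,2,0,6,3,0,2,6,0,2,2], [0], [0,2,6,3,0,3,6,0,6,3,6],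
  [2,2,0,6,3,0,2,6,0,3], [2,0,6,3,0,2,6,0,2,2], [2,4,6,3,0,3,6,0,6,3,6], [4], [2,0,3,0,2,0,3,0,2,5], [3,0,2,0,3,0,2,0,3,5],
  [2,5,6,3,0,3,6,0,6,3,6], [5], [2,0,3,0,2,0,3,0,2,4], [3,0,2,0,3,0,2,0,3,4], [0,4], [2,0,3,5,6,2,2,6,2,0,3],
  [0,2,0,3,0,2,0,3,0,2,5], [0,3,0,2,0,3,0,2,0,3,5], [2,0,3,4,6,2,2,6,2,0,3], [0,5], [0,3,0,2,0,3,0,2,0,3,4], [0,2,0,3,0,2,0,3,0,2,4],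
  [0,2,2,6,3,6,0,6,0,3,6], [3,0,6,0,3,0,2,2,6], [0,6,2,2,0,2,0,6,0,2], [2,2,0,6,2,0,3,0,2,0,6,3], [0,2,0,3,6,2,2,6,2,0,3], [4,4],
  [2,0,3,0,2,0,3,0,2], [3,0,2,0,3,0,2,0,3], [2,0,3,6,2,2,6,2,0,3], [0,4,4], [0,3,0,2,0,3,0,2,0,3], [0,2,0,3,0,2,0,3,0,2],
  [3,0,2,0,3,0,6,2,6,2,0,3], [5,6,2,0,6,0,6,2,6,2,2], [0,2,0,3,6,3,6,2,0,3], [0,4,6,2,2,0,2,0,6,0,2], [4,6,2,0,6,0,6,2,6,2,2], [2,0,3,6,2,6,2,0,3],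
  [3,0,5,6,0,3,0,2,2,6], [2,2,6,0,6,3,6,2,0,6,2,2], [0,3,0,6,0,3,0,2,2,6], [2,2,6,3,6,0,6,0,3,6], [2,0,6,2,0,2,0,2,2,0,6,3], [6,2,2,0,2,0,6,0,2],
  [2,0,3,6,2,0,3,0,6,2,0,2], [2,0,3,6,3,6,2,0,3], [2,2,4,6,3,6,0,6,0,3,6], [4,6,2,2,0,2,0,6,0,2], [6,2,0,6,0,6,2,6,2,2], [0,2,0,3,4,6,3,6,2,0,3],
  [2,0,3,5,6,2,6,2,0,3], [2,6,0,2,2,0,3,0,3,6,0,3], [0,3,0,5,6,0,3,0,2,2,6], [2,2,5,6,3,6,0,6,0,3,6], [2,2,6,0,3,6,2,6,0,6,2,2], [0,2,0,3,6,2,6,2,0,3],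
  [3,6,2,6,2,2,6,3,6,2], [6,2,0,6,0,2,0,6,3,0,6], [3,5,6,3,0,6,0,6,2,2,6,3], [3,0,3,6,2,0,2,6,3,6,3,6], [2,6,0,3,0,2,0,3,6,0,2,2], [2,0,3,4,6,3,6,2,0,3],
  [0,6,2,0,6,0,6,2,6,2,2], [0,2,0,3,5,6,2,6,2,0,3], [4,6,2,0,6,2,2,6,0,3,6], [2,2,4,6,3,6,2,0,6,3,0,6], [2,0,2,6,0,6,0,2,6,3,0,6], [2,6,3,0,2,0,6,2,0,3,0,2],
  [0,3,6,2,6,2,2,6,3,6,2], [0,6,2,0,6,0,2,0,6,3,0,6], [6,3,0,6,0,6,3,0,2,0,6,2], [0,3,5,6,3,0,6,0,6,2,2,6,3], [0,2,6,3,6,2,2,6,2,2,6,2], [3,0,3,6,3,6,0,2,0,6,0,6],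
  [0,6,0,6,3,6,0,3,0,2,0,2,6], [2,4,6,2,2,6,0,6,0,2,6,2], [3,0,2,0,3,6,0,3,0,2,6,3], [0,6,2,0,6,2,2,6,0,3,6], [2,0,6,3,6,2,6,2,0,3,6,3], [2,6,3,0,2,0,6,0,2,0,3],
  [6,0,2,6,0,3,0,6,0,3,6], [2,0,6,2,6,0,3,0,2,0,2], [0,6,3,0,3,0,2,0,6,2,6,0,6], [0,2,6,2,2,6,0,6,0,2,6,2], [2,6,2,2,6,2,2,6,0,2,2,6], [2,6,3,6,2,2,6,2,2,6,2],
  [6,0,6,3,6,0,3,0,2,0,2,6], [0,2,4,6,2,2,6,0,6,0,2,6,2], [4,6,2,0,6,0,2,0,6,3,0,6], [3,4,6,2,6,2,2,6,3,6,2], [3,6,3,0,6,0,6,2,2,6,3], [3,6,0,3,0,2,6,0,6,0,2,6],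
  [4,4,6,2,0,6,2,2,6,0,3,6], [0,3,0,6,2,6,2,2,6,3,0,2,6], [6,0,2,6,0,3,6,2,6,2,2], [0,2,0,6,2,0,6,2,6,2,6,0,3], [0,4,6,2,0,6,0,2,0,6,3,0,6], [0,3,4,6,2,6,2,2,6,3,6,2],
  [6,2,2,6,0,6,0,6,3,6,2,6], [0,3,6,3,0,6,0,6,2,2,6,3], [6,2,0,6,2,2,6,0,3,6], [0,3,0,2,0,3,6,0,3,0,2,6,3], [2,2,6,3,6,2,0,6,3,0,6], [3,0,3,6,2,0,6,0,6,0,6,3],
  [3,6,2,0,2,2,0,2,6,2,2], [0,2,0,2,6,0,6,0,2,6,3,0,6], [0,2,6,3,0,2,0,6,2,0,3,0,2], [2,0,3,0,5,6,0,3,0,2,6,3], [0,6,0,2,6,0,3,0,6,0,3,6], [0,2,0,6,2,6,0,3,0,2,0,2],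
  [6,3,0,3,0,2,0,6,2,6,0,6], [2,6,2,2,6,0,6,0,2,6,2], [2,6,0,6,0,6,0,3,6,2,0,2], [2,0,3,0,4,6,0,3,0,2,6,3], [0,2,0,6,3,6,3,6,0,3,6,0,3], [2,2,6,3,0,2,2,0,3,6,2],
  [2,6,2,0,3,6,3,6,2,6,0,3], [5,6,2,0,6,2,2,6,0,3,6], [2,2,5,6,3,6,2,0,6,3,0,6], [2,0,6,3,6,3,6,0,3,6,0,3], [2,0,3,0,6,0,3,0,2,6,3], [2,2,5,6,3,0,2,2,0,3,6,2],
  [3,0,6,2,6,2,2,6,3,0,2,6], [2,0,6,2,0,6,2,6,2,6,0,3]]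

noncomputable def do2 : List (List ℕ) := [
  [0,2,6,2,6,0,2,0,2,6], [0,6,2,6,0,6,0,6,3,6], [2,2,0,6,2,2,0,6,3,6,3,0,2], [0,2,4,4,6,3,0,6,0,2,6,3], [2,6,2,6,0,2,0,2,6], [2,0,6,0,3,0,3,6,3,6,3,0,2],
  [6,2,6,0,6,0,6,3,6], [2,4,4,6,3,0,6,0,2,6,3], [0,2,4,6,2,6,0,2,0,2,6], [0,4,6,2,6,0,6,0,6,3,6], [0,2,5,6,3,0,6,3,6,0,6,3,6], [0,2,5,6,3,0,6,0,2,6,3],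
  [0,5,6,2,6,0,6,0,6,3,6], [0,2,5,6,2,6,0,2,0,2,6], [0,2,4,6,3,0,6,0,2,6,3], [0,2,4,6,3,0,6,3,6,0,6,3,6], [2,5,6,3,0,6,3,6,0,6,3,6], [2,4,6,2,6,0,2,0,2,6],
  [4,6,2,6,0,6,0,6,3,6], [2,5,6,3,0,6,0,2,6,3], [5,6,2,6,0,6,0,6,3,6], [2,5,6,2,6,0,2,0,2,6], [2,4,6,3,0,6,3,6,0,6,3,6], [2,4,6,3,0,6,0,2,6,3],
  [4,4,6,3,0,2,0,2,2,6,2,6], [2,2,4,6,0,6,0,6,2,2], [6,0,6,0,6,0,6,0,6], [2,2,4,6,2,0,2,6,2,0,6], [0,2,4,4,6,2,6,0,2,0,2,6], [0,4,4,6,2,6,0,6,0,6,3,6],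
  [0,2,6,3,0,6,3,6,0,6,3,6], [0,2,6,3,0,6,0,2,6,3], [2,4,4,6,2,6,0,2,0,2,6], [2,6,3,0,6,3,6,0,6,3,6], [4,4,6,2,6,0,6,0,6,3,6], [2,6,3,0,6,0,2,6,3],
  [5,6,3,0,2,0,2,2,6,2,6], [2,2,4,4,6,0,6,0,6,2,2], [4,6,0,6,0,6,0,6,0,6], [2,2,4,4,6,2,0,2,6,2,0,6], [2,2,6,0,6,0,6,2,2], [4,6,3,0,2,0,2,2,6,2,6],
  [5,6,0,6,0,6,0,6,0,6], [2,2,6,2,0,2,6,2,0,6], [2,0,6,0,6,2,2,0,3,6,0,3], [0,2,2,4,6,2,0,2,6,2,0,6], [3,0,2,2,4,6,2,2,0,2], [0,6,0,6,0,6,0,6,0,6],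
  [0,5,6,3,0,2,0,2,2,6,2,6], [3,0,2,0,2,6,0,2,6,2,6,2], [3,0,2,2,4,4,6,2,2,0,2], [0,4,6,0,6,0,6,0,6,0,6], [6,3,0,2,0,2,2,6,2,6], [2,2,5,6,0,6,0,6,2,2],
  [2,2,5,6,2,0,2,6,2,0,6], [4,4,6,0,6,0,6,0,6,0,6], [0,4,6,3,0,2,0,2,2,6,2,6], [3,0,2,2,6,2,2,0,2], [0,5,6,0,6,0,6,0,6,0,6], [0,2,2,6,2,0,2,6,2,0,6],
  [3,0,3,0,3,6,0,6,2,2,6], [2,2,0,3,0,3,4,6,0,3,6,3,6], [3,6,2,0,2,0,6,3,6,2], [6,0,6,2,0,2,0,3,6,3], [0,2,2,5,6,2,0,2,6,2,0,6], [0,6,3,0,2,0,2,2,6,2,6],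
  [3,0,2,2,5,6,2,2,0,2], [0,4,4,6,0,6,0,6,0,6,0,6], [2,6,2,0,3,0,3,6,0,6], [0,2,4,6,2,0,6,2,2,6,0,3], [0,2,0,2,6,0,2,2,6,0,6,2], [0,2,6,2,0,6,2,0,2,6,0,2,2],
  [0,3,6,2,0,2,0,6,3,6,2], [0,3,0,3,0,3,6,0,6,2,2,6], [2,6,0,3,6,2,6,0,6,3,0,2,6], [6,2,6,2,0,6,3,6,0,6], [2,0,2,2,6,2,6,2,0,6,0,3], [2,0,6,2,2,6,0,3,6,3],
  [0,2,2,0,3,0,3,6,0,3,6,3,6], [5,6,2,6,2,0,6,3,6,0,6], [5,6,0,6,2,6,0,3,6,3,6], [2,6,2,0,6,2,2,6,0,3], [6,0,6,3,6,0,3,6,3,6,3], [2,2,6,3,6,0,3,6,3,6,0,3,6],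
  [2,6,2,6,2,0,6,2,6,0,6], [2,0,2,0,3,6,3,6,2,2,6], [0,2,0,5,6,2,2,6,0,3,6,3], [6,2,0,6,3,6,3,6,0,3,6], [5,6,0,6,2,0,2,0,3,6,3], [2,4,6,2,6,2,0,6,2,6,0,6],
  [2,2,0,3,0,3,6,0,3,6,3,6], [0,2,0,6,2,2,6,0,3,6,3], [2,6,0,2,6,2,0,2,2,6,2], [4,6,0,6,2,0,2,0,3,6,3], [5,6,2,0,6,3,6,3,6,0,3,6], [3,4,6,2,0,2,0,6,3,6,2],
  [3,5,6,2,6,0,3,0,3,6,2], [2,4,6,2,0,3,0,3,6,0,6], [0,6,2,2,6,0,6,2,0,2,0,2], [0,6,2,0,6,2,6,2,6,0,3,6], [0,2,6,0,2,6,2,0,2,2,6,2], [0,3,4,6,2,0,2,0,6,3,6,2],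
  [4,6,2,6,2,0,6,3,6,0,6], [0,5,6,2,0,6,3,6,3,6,0,3,6], [2,5,6,2,0,3,0,3,6,0,6], [0,2,6,2,0,6,2,2,6,0,3], [0,6,0,6,3,6,0,3,6,3,6,3], [2,0,2,6,0,3,6,3,6,3,6,2,6],
  [6,0,6,2,6,0,3,6,3,6], [2,4,6,2,0,6,2,2,6,0,3], [2,0,2,6,0,2,2,6,0,6,2], [2,6,2,0,6,2,0,2,6,0,2,2], [0,2,6,2,6,2,0,6,2,6,0,6], [2,0,5,6,2,2,6,0,3,6,3],
  [0,6,2,0,6,3,6,3,6,0,3,6], [0,2,0,2,0,3,6,3,6,2,2,6], [0,6,2,2,6,2,6,2,0,3,0,3], [4,6,2,2,6,0,6,2,0,2,0,2], [0,3,6,2,6,0,3,0,3,6,2], [4,6,2,0,6,2,6,2,6,0,3,6],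
  [6,2,2,6,2,6,2,0,3,0,3], [2,0,6,0,3,6,3,6,2,2,0,3], [3,6,2,6,0,3,0,3,6,2], [0,4,6,2,0,6,2,6,2,6,0,3,6], [0,3,5,6,2,6,0,3,0,3,6,2], [4,6,0,6,2,6,0,3,6,3,6],
  [6,2,2,6,0,6,2,0,2,0,2], [6,2,0,6,2,6,2,6,0,3,6]]

noncomputable def ow2 : List (ℕ × List ℕ) := [
  (0,[2,0,2,0,3,0,2,2]), (0,[2,5,6,0,6,3,0,2,0,3,0]), (0,[2,0,4,6,2,0,6,0,2,0,2,0]), (0,[0,4,6,2,0,6,0,2,0,2,0]), (0,[0,3,0,3,0,3,6,2,0,6]), (1,[2,2,0,3,0,2,0,2,0,3,0,2]),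
  (0,[0,5,6,2,0,6,0,6,0,2,6,2]), (1,[3,0,2,2,0,2,0,2]), (1,[0,3,6,0,2,2,0,2,6,0,2,0]), (0,[2,2,0,3,0,2,2,0,2]), (1,[]), (1,[2,0,3,0,2,0,3,0,2]),
  (1,[6,0,2,6,2,0,6,0,3,6]), (1,[2,0,2,0,3,0,2,2,0,2]), (1,[3,0,2,2,0,2,2]), (0,[2,0,2,0,2,2]), (1,[2,0,3,0,2,0,2,0,2,2]), (0,[2,0,3,0,3,0,2,0,3,0,3]),
  (1,[0,2,2,0,2,0,3,0,3,0]), (0,[2,0,2,0,3,0,3,0,3]), (0,[]), (1,[0,2,0,3,6,3,0,6,2,0,2,2]), (0,[3,6,3,0,6,0,6,2,6,2,2]), (1,[2,0,2,0,3,0,3,0,3,0,2]),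
  (0,[6,0,3,0,6,0,2,0,2]), (1,[2,2,0,3,0,2,0,2]), (0,[2,0,3,0,3,0,2,0,2]), (1,[0,2,0,3,0,6,0,6,3,0,3]), (0,[0,4,6,2,6,2,6,3,6,0,3]), (1,[3,6,3,0,6,0,6,2,6,2,2]),
  (1,[2,4,6,2,0,3,0,6,0,6,3,6]), (0,[0,6,0,3,0,2,0,6,0])]

noncomputable def reps2 : List OutRep := [
  ⟨[2,2,6,0,6,0,6,2,2], [2,6,2,6,2,6,0,6,2], [2,0,5,6,2,6,3,6,3,6,0], [[2,6,0,6,2,2,6,2],[0,2,6,0,6,3,0,3,6,2]]⟩,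
  ⟨[0,2,4,4,6,2,6,0,2,0,2,6], [0,2,6,3,6,0,6,2,6,3], [2,2,0,2,2,0,2], [[2,6,0,2,6,2,0,6],[0,6,0,3,6,3,0,6,3]]⟩]

/-- The lists. -/
noncomputable def dat2 : Dat := ⟨de2, do2, ow2, reps2⟩

noncomputable def small2 : List (List ℕ) := [
  [0,61,2,62,1,3,60,63], [0,60,2,63,1,3,61,62], [60,0,62,3,61,63,1,2], [61,0,63,3,60,62,1,2], [0,2,3,63,62,61,1,60], [0,2,3,62,63,60,1,61],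
  [3,63,0,61,2,1,62,60], [3,62,0,60,2,1,63,61], [63,2,60,0,62,61,3,1], [62,2,61,0,63,60,3,1], [1,61,3,62,0,2,60,63], [1,60,3,63,0,2,61,62],
  [3,0,1,61,60,62,2,63], [3,0,1,60,61,63,2,62], [2,1,0,60,61,63,3,62], [2,1,0,61,60,62,3,63], [63,60,61,0,1,3,62,2], [62,61,60,0,1,3,63,2],
  [2,62,1,60,3,0,63,61], [2,63,1,61,3,0,62,60], [63,60,61,1,0,2,62,3], [62,61,60,1,0,2,63,3], [60,62,63,2,3,0,61,1], [61,63,62,2,3,0,60,1],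
  [1,3,2,62,63,60,0,61], [1,3,2,63,62,61,0,60], [61,63,62,3,2,1,60,0], [60,62,63,3,2,1,61,0], [61,1,63,2,60,62,0,3], [60,1,62,2,61,63,0,3],
  [63,3,60,1,62,61,2,0], [62,3,61,1,63,60,2,0]]

theorem smallOk2 : dat2.smallOk (2 : Fin 12) cert2 small2 = true := by decide +kernel

theorem dok2 : dat2.Ok (2 : Fin 12) cert2 :=
  ⟨by decide +kernel, ⟨_, smallOk2⟩, by decide +kernel, by decide +kernel, by decide +kernel⟩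

theorem fourth2 : Dat.cnt4 (2 : Fin 12) cert2 dat2.Do [4, 4] = 0 := by decide +kernel

theorem roots2 : Dat.cnt2 (2 : Fin 12) cert2 dat2.Do [4, 4] = 32 ∧
    Dat.cnt2 (2 : Fin 12) cert2 dat2.Do [0] = 0 := by decide +kernel

theorem central2 : cert2.eqB (2 : Fin 12) [6, 4, 7] [4] = true := by decide +kernel

end CfsgLib.StdON.ModelData
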