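import Cfsg.Agent.Lib.ONanRec.PinData.C3
import Cfsg.Agent.Lib.StdON.ModelCheck

/-!
The lists for candidate 3 (generated).
-/

set_option autoImplicit false
set_option maxRecDepth 100000
set_option maxHeartbeats 4000000

namespace CfsgLib.StdON.ModelData

open ONanRec.PinData

noncomputable def de3 : List (List ℕ) := [
  [6,2,0,6,2,2,6,0,3,6], [], [0,6,2,0,6,2,2,6,0,3,6], [0], [2,0,2,6,0,6,0,2,7,3,0,7], [2,2,0,6,3,0,2,7,0,3],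
  [6,2,0,7,2,2,7,0,3,7], [4], [5], [6,2,0,6,2,2,6,0,3,7], [0,6,2,0,7,2,2,7,0,3,7], [0,4],
  [0,5], [0,6,2,0,6,2,2,6,0,3,7], [2,0,6,3,6,2,6,2,0,3,7,3], [6,2,6,0,2,6,0,2,6,3], [2,0,2,6,0,6,0,2,6,3,0,7], [2,2,0,6,3,0,2,6,0,3],
  [2,0,2,6,0,7,0,2,7,3,0,7], [2,2,0,7,3,0,2,7,0,3], [4,4], [6,2,0,6,2,2,7,0,3,7], [2,0,6,2,0,6,2,6,2,6,0,3], [2,6,3,0,7,3,0,7,3,7],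
  [0,4,4], [0,6,2,0,6,2,2,7,0,3,7], [2,0,3,0,6,0,3,0,2,7,3], [2,0,3,6,2,2,7,2,0,3], [2,0,6,3,6,2,6,2,0,3,6,3], [2,0,3,0,2,0,3,0,2,5],
  [2,0,6,3,6,2,7,2,0,3,7,3], [2,0,3,0,2,0,3,0,2,4], [2,0,2,6,0,6,0,2,6,3,0,6], [0,2,0,3,0,2,0,3,0,2], [2,2,6,3,6,0,6,0,3,7], [3,6,2,7,2,2,7,3,7,2],
  [2,0,6,3,6,3,6,0,3,7,0,3], [2,0,6,3,0,2,6,0,2,2], [2,0,6,2,0,7,2,7,2,7,0,3], [3,0,2,0,3,0,2,0,3], [2,0,6,2,0,6,2,6,2,7,0,3], [2,6,3,0,6,3,0,6,3,6],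
  [2,2,6,3,6,2,0,6,3,0,6], [2,6,3,0,3,6,0,6,3,6], [2,0,3,0,6,0,3,0,2,6,3], [2,0,3,6,2,2,6,2,0,3], [2,0,3,0,7,0,3,0,2,7,3], [2,0,3,7,2,2,7,2,0,3],
  [2,0,6,3,7,2,7,2,0,3,7,3], [2,0,3,0,2,0,3,0,2], [0,3,6,2,6,2,2,7,3,7,2], [6,2,0,6,0,7,2,7,2,2], [6,2,0,7,0,7,2,7,2,2], [0,3,6,2,7,2,2,7,3,7,2],
  [6,2,0,6,0,6,2,6,2,2], [0,3,6,2,6,2,2,6,3,6,2], [2,0,3,6,3,7,2,0,3], [6,2,2,6,0,6,0,6,3,7,2,7], [2,0,3,7,3,7,2,0,3], [6,2,2,6,0,6,0,7,3,7,2,7],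
  [2,0,3,6,2,0,3,0,7,2,0,2], [6,0,2,7,0,3,0,7,0,3,7], [2,0,3,7,2,0,3,0,7,2,0,2], [6,0,2,6,0,3,0,6,0,3,6], [6,2,2,6,0,6,0,6,3,6,2,6], [0,3,0,7,0,3,0,2,2,7],
  [2,0,7,2,0,2,0,2,2,0,7,3], [6,0,2,6,0,3,0,6,0,3,7], [2,2,6,3,6,0,6,0,3,6], [3,6,2,6,2,2,7,3,7,2], [2,2,6,3,6,0,7,0,3,7], [3,6,2,6,2,2,6,3,6,2],
  [2,0,6,3,6,3,6,0,3,6,0,3], [0,3,0,2,0,3,0,2,0,3], [2,0,6,3,6,3,7,0,3,7,0,3], [2,0,6,3,0,2,7,0,2,2], [2,0,6,2,0,6,2,7,2,7,0,3], [2,6,3,0,6,3,0,6,3,7],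
  [7,2,2,0,2,0,7,0,2], [2,6,2,2,6,0,7,0,2,7,2], [0,2,0,3,7,2,7,2,0,3], [2,6,2,2,7,0,7,0,2,7,2], [2,2,6,3,7,0,7,0,3,7], [3,6,2,6,2,2,6,3,7,2],
  [3,0,7,0,3,0,2,2,7], [3,0,3,6,2,0,2,6,3,7,3,7], [0,2,0,3,6,3,6,2,0,3], [3,0,3,6,2,0,2,7,3,7,3,7], [6,2,2,0,2,0,6,0,2], [2,6,2,2,6,0,6,0,2,6,2],
  [3,0,6,0,3,0,2,2,6], [3,0,3,6,2,0,2,6,3,6,3,6], [2,2,6,3,7,2,0,7,3,0,7], [2,6,3,0,3,7,0,7,3,7], [2,2,6,3,6,2,0,6,3,0,7], [2,6,3,0,3,6,0,6,3,7],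
  [2,6,3,0,2,0,7,0,2,0,3], [0,2,6,3,0,3,6,0,7,3,7], [6,2,0,6,0,6,2,7,2,2], [0,3,6,2,6,2,2,6,3,7,2], [2,0,6,3,7,3,7,0,3,7,0,3], [2,0,7,3,0,2,7,0,2,2],
  [2,2,6,3,6,2,0,7,3,0,7], [2,6,3,0,3,6,0,7,3,7], [6,2,2,6,0,6,0,6,3,6,2,7], [2,0,3,6,3,6,2,0,3], [2,0,3,6,2,0,3,0,6,2,0,2], [6,0,2,6,0,3,0,7,0,3,7],
  [3,0,6,0,3,0,2,2,7], [3,0,3,6,2,0,2,6,3,6,3,7], [0,6,0,2,7,0,3,0,7,0,3,7], [2,2,0,6,2,0,3,0,2,0,6,3], [0,6,0,2,6,0,3,0,6,0,3,6], [2,2,0,6,2,0,3,0,2,0,7,3],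
  [6,2,2,0,2,0,7,0,2], [2,6,2,2,6,0,6,0,2,7,2], [0,6,0,2,6,0,3,0,6,0,3,7], [2,2,0,7,2,0,3,0,2,0,7,3], [2,0,3,6,2,7,2,0,3], [3,6,3,0,6,0,6,2,2,7,3],
  [2,0,3,7,2,7,2,0,3], [3,6,3,0,6,0,7,2,2,7,3], [0,6,2,2,0,2,0,6,0,2], [3,6,3,0,7,0,7,2,2,7,3], [2,0,3,6,2,6,2,0,3], [3,6,3,0,6,0,6,2,2,6,3],
  [0,6,0,2,6,0,3,0,7,0,3,7], [2,2,6,0,7,3,7,2,0,7,2,2]]

noncomputable def do3 : List (List ℕ) := [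
  [2,6,2,6,0,2,0,2,7], [2,0,7,2,2,7,0,3,7,3], [2,6,2,7,0,2,0,2,7], [2,0,6,2,2,6,0,3,6,3], [0,6,2,0,6,3,6,3,6,0,3,6], [0,2,6,3,0,6,0,2,7,3],
  [0,6,2,0,6,3,6,3,6,0,3,7], [0,2,6,3,0,7,0,2,7,3], [6,2,6,2,0,6,3,6,0,6], [6,2,6,0,7,0,7,3,7], [6,2,6,2,0,6,3,6,0,7], [6,2,6,0,6,0,6,3,6],
  [0,2,2,7,0,7,0,7,2,2], [6,0,6,2,7,0,3,7,3,7], [0,2,2,6,0,6,0,6,2,2], [6,0,6,2,6,0,3,6,3,6], [2,6,2,6,0,2,0,2,6], [2,0,6,2,2,7,0,3,7,3],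
  [2,7,2,7,0,2,0,2,7], [2,0,6,2,2,6,0,3,7,3], [0,2,6,0,2,7,2,0,2,2,7,2], [0,2,6,3,0,6,3,6,0,6,3,6], [3,6,2,0,2,0,6,3,6,2], [0,2,6,2,6,0,2,0,2,7],
  [0,2,6,2,6,2,0,6,2,6,0,7], [0,2,6,3,0,6,3,6,0,6,3,7], [3,6,2,0,2,0,6,3,7,2], [0,2,6,2,7,0,2,0,2,7], [2,6,2,0,6,2,2,7,0,3], [0,2,2,6,2,0,2,6,2,0,7],
  [0,2,2,6,2,0,2,7,2,0,7], [2,6,2,0,7,2,2,7,0,3], [0,6,2,0,6,3,7,3,7,0,3,7], [0,2,6,3,0,6,0,2,6,3], [0,6,2,0,6,3,6,3,7,0,3,7], [0,2,7,3,0,7,0,2,7,3],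
  [6,2,0,6,3,6,3,6,0,3,6], [2,6,3,0,6,0,2,7,3], [6,2,0,6,3,6,3,6,0,3,7], [2,6,3,0,7,0,2,7,3], [3,0,2,2,6,2,2,0,2], [6,0,6,2,6,0,3,6,3,7],
  [3,0,2,2,7,2,2,0,2], [6,0,6,2,6,0,3,7,3,7], [6,2,6,2,0,7,3,7,0,7], [6,2,6,0,6,0,7,3,7], [6,2,6,2,0,6,3,7,0,7], [6,2,6,0,6,0,6,3,7],
  [7,0,7,2,0,2,0,3,7,3], [0,6,2,6,0,7,0,7,3,7], [6,0,6,2,0,2,0,3,6,3], [0,6,2,6,0,6,0,6,3,6], [2,0,2,6,0,2,2,7,0,7,2], [6,3,0,2,0,2,2,6,2,7],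
  [2,0,2,7,0,2,2,7,0,7,2], [6,3,0,2,0,2,2,7,2,7], [2,2,7,0,7,0,7,2,2], [2,6,2,0,3,0,3,7,0,7], [2,7,3,0,7,0,2,7,3], [6,2,0,6,3,6,3,7,0,3,7],
  [2,2,6,0,6,0,6,2,2], [2,7,2,0,3,0,3,7,0,7], [2,0,2,6,0,2,2,6,0,6,2], [7,3,0,2,0,2,2,7,2,7], [2,6,2,0,6,2,2,6,0,3], [0,2,2,6,2,0,2,6,2,0,6],
  [6,3,0,2,0,2,2,6,2,6], [2,0,2,6,0,2,2,6,0,7,2], [0,2,6,0,2,6,2,0,2,2,7,2], [0,2,6,3,0,6,3,7,0,7,3,7], [3,7,2,0,2,0,7,3,7,2], [0,2,6,2,6,0,2,0,2,6],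
  [0,2,6,0,2,6,2,0,2,2,6,2], [0,2,6,3,0,6,3,6,0,7,3,7], [3,6,2,0,2,0,7,3,7,2], [0,2,7,2,7,0,2,0,2,7], [2,6,0,2,7,2,0,2,2,7,2], [2,6,3,0,6,3,6,0,6,3,6],
  [2,6,2,6,2,0,6,2,6,0,7], [2,6,3,0,6,3,6,0,6,3,7], [6,2,0,6,3,7,3,7,0,3,7], [2,6,3,0,6,0,2,6,3], [2,7,2,0,7,2,2,7,0,3], [0,2,2,7,2,0,2,7,2,0,7],
  [2,2,6,2,0,2,6,2,0,7], [3,6,2,6,0,3,0,3,6,2], [2,2,6,2,0,2,7,2,0,7], [3,6,2,6,0,3,0,3,7,2], [2,2,6,0,6,0,7,2,2], [2,6,2,0,3,0,3,6,0,6],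
  [2,2,6,0,7,0,7,2,2], [2,6,2,0,3,0,3,6,0,7], [6,0,7,2,0,2,0,3,7,3], [0,6,2,6,0,6,0,7,3,7], [6,0,6,2,0,2,0,3,7,3], [0,6,2,6,0,6,0,6,3,7],
  [2,6,0,2,6,2,0,2,2,7,2], [2,6,3,0,6,3,7,0,7,3,7], [0,6,0,6,0,6,0,6,0,7], [0,6,2,0,6,2,7,2,7,0,3,7], [0,6,0,6,0,6,0,7,0,7], [0,6,2,0,6,2,6,2,6,0,3,6],
  [0,6,3,0,2,0,2,2,6,2,7], [0,2,0,2,6,0,2,2,7,0,7,2], [0,6,3,0,2,0,2,2,7,2,7], [0,2,0,2,7,0,2,2,7,0,7,2], [0,7,3,0,2,0,2,2,7,2,7], [0,2,0,2,6,0,2,2,6,0,6,2],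
  [3,7,2,7,0,3,0,3,7,2], [2,2,6,2,0,2,6,2,0,6], [0,6,3,0,2,0,2,2,6,2,6], [0,2,0,2,6,0,2,2,6,0,7,2], [2,6,0,2,6,2,0,2,2,6,2], [2,6,3,0,6,3,6,0,7,3,7],
  [2,2,7,2,0,2,7,2,0,7], [3,6,2,7,0,3,0,3,7,2], [0,6,0,6,0,6,0,6,0,6], [0,6,2,0,6,2,6,2,7,0,3,7], [0,6,0,6,0,7,0,7,0,7], [0,6,2,0,6,2,6,2,6,0,3,7],
  [6,0,6,0,6,0,6,0,7], [6,2,0,6,2,7,2,7,0,3,7], [6,0,6,0,6,0,7,0,7], [6,2,0,6,2,6,2,6,0,3,6], [6,0,6,0,7,0,7,0,7], [6,2,0,6,2,6,2,6,0,3,7],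
  [6,0,6,0,6,0,6,0,6], [6,2,0,6,2,6,2,7,0,3,7]]

noncomputable def ow3 : List (ℕ × List ℕ) := [
]

noncomputable def reps3 : List OutRep := [
]

/-- The lists. -/
noncomputable def dat3 : Dat := ⟨de3, do3, ow3, reps3⟩

noncomputable def small3 : List (List ℕ) := [
  [1,27,5,23,0,26,22,4], [1,27,23,5,26,0,22,4], [1,22,4,27,5,23,26,0], [1,4,22,27,23,26,0,5], [27,1,5,23,0,26,4,22], [27,1,23,5,26,0,4,22],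
  [5,23,1,27,22,4,0,26], [23,5,1,27,22,4,26,0], [4,1,27,22,26,23,5,0], [22,1,27,4,26,0,5,23], [23,5,27,1,4,22,26,0], [22,27,1,4,0,5,23,26],
  [4,27,1,22,0,26,23,5], [27,22,4,1,5,0,26,23], [27,4,22,1,23,5,0,26], [5,26,0,23,1,22,4,27], [23,26,0,5,1,27,4,22], [5,23,27,1,4,22,0,26],
  [5,0,26,23,27,1,22,4], [26,0,22,4,1,27,23,5], [0,26,22,4,1,27,5,23], [26,23,5,0,4,22,1,27], [26,5,23,0,22,1,27,4], [0,5,23,26,22,4,27,1],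
  [0,23,5,26,4,27,1,22], [23,0,26,5,27,4,22,1], [26,0,4,22,27,1,23,5], [0,26,4,22,27,1,5,23], [22,4,26,0,23,5,1,27], [22,4,0,26,5,23,1,27],
  [4,22,0,26,5,23,27,1], [4,22,26,0,23,5,27,1]]

theorem smallOk3 : dat3.smallOk (3 : Fin 12) cert3 small3 = true := by decide +kernel

theorem dok3 : dat3.Ok (3 : Fin 12) cert3 :=
  ⟨by decide +kernel, ⟨_, smallOk3⟩, by decide +kernel, by decide +kernel, by decide +kernel⟩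

theorem fourth3 : Dat.cnt4 (3 : Fin 12) cert3 dat3.Do [4, 4] = 64 := by decide +kernel

theorem roots3 : Dat.cnt2 (3 : Fin 12) cert3 dat3.Do [4, 4] = 0 ∧
    Dat.cnt2 (3 : Fin 12) cert3 dat3.Do [0] = 0 := by decide +kernel

theorem central3 : cert3.eqB (3 : Fin 12) [6, 4, 7] [4] = true := by decide +kernel

end CfsgLib.StdON.ModelData
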