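import Cfsg.Agent.Lib.ONanRec.PinData.C4
import Cfsg.Agent.Lib.StdON.ModelCheck

/-!
The lists for candidate 4 (generated).
-/

set_option autoImplicit false
set_option maxRecDepth 100000
set_option maxHeartbeats 4000000

namespace CfsgLib.StdON.ModelData

open ONanRec.PinData

noncomputable def de4 : List (List ℕ) := [
  [0,3,0,3,4,4,6,0,6,2,0,2], [6,2,0,6,0,2,2,0,6,0,6,3], [3,0,3,6,0,6,2,0,2], [2,6,0,6,0,2,2,0,6,0,3,6], [0,2,0,2,0,6,0,6,0,6,3,0,6], [0,4,4],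
  [], [6,2,6,2,6,3,6,0,6,0,2,6], [3,0,2,2,0,6,2,0,6,3,0,2], [0,3,0,3,6,0,6,2,0,2], [2,6,0,3,6,2,6,2,0,3,6,2], [3,0,3,4,4,6,0,6,2,0,2],
  [4,4], [2,0,2,0,6,0,6,0,6,3,0,6], [0,6,2,6,2,6,3,6,0,6,0,2,6], [0], [6,3,6,2,0,2,6,3,0,2,0,6], [0,3,0,3,5,6,0,6,2,0,2],
  [3,0,3,4,6,0,6,2,0,2], [3,0,2,0,3,0,6,3,6,2,0,3], [2,0,2,0,5,6,0,6,0,6,3,0,6], [0,5], [2,6,2,2,0,3,6,3,6,3,0,6,3], [4],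
  [0,3,0,3,4,6,0,6,2,0,2], [2,0,3,6,2,6,0,2,0,3,0,2], [6,0,3,0,2,6,3,0,3,6,2,6], [3,0,3,5,6,0,6,2,0,2], [0,4], [2,0,2,0,4,6,0,6,0,6,3,0,6],
  [5], [2,0,2,0,3,0,3,6,3,0,3,6,2], [2,2,6,3,0,6,0,2], [2,0,6,2,2,0,6,0,3,6,3,6], [0,2,0,3,0,2,0,3,0,2,4,4], [0,2,0,3,5,6,3,6,2,0,3],
  [2,0,3,4,6,3,6,2,0,3], [2,0,3,0,2,0,3,0,2], [2,2,0,3,6,0,2,0,2,6,2], [3,0,4,6,0,2,6,2,2], [0,2,0,3,0,2,0,3,0,2], [0,2,0,3,4,6,3,6,2,0,3],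
  [0,3,0,4,6,0,2,6,2,2], [0,2,2,0,3,6,0,2,0,2,6,2], [0,2,0,6,2,2,0,6,0,3,6,3,6], [0,2,2,6,3,0,6,0,2], [2,0,3,5,6,3,6,2,0,3], [2,0,3,0,2,0,3,0,2,4,4],
  [0,2,0,3,0,2,0,3,0,2,5], [0,3,0,6,0,2,6,2,2], [0,2,2,5,6,3,0,6,0,2], [0,2,0,3,6,3,6,2,0,3], [3,6,3,0,3,0,6,2,0,2,2], [2,0,3,0,2,0,3,0,2,4],
  [0,6,0,6,0,3,0,2,6,2,6], [2,2,0,3,4,6,0,2,0,2,6,2], [2,2,5,6,3,0,6,0,2], [0,2,0,3,0,2,0,3,0,2,4], [2,0,3,0,2,0,3,0,2,5], [0,2,2,0,3,4,6,0,2,0,2,6,2],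
  [6,0,6,0,3,0,2,6,2,6], [3,0,6,0,2,6,2,2], [0,3,6,3,0,3,0,6,2,0,2,2], [2,0,3,6,3,6,2,0,3], [0,2,0,3,6,2,6,2,0,3], [2,0,3,0,6,2,0,6,0,2,2,0,2],
  [2,0,3,6,2,6,2,6,0,6,0,3], [0,6,3,6,3,0,2,0,6,0,6], [6,0,2,0,6,3,0,3,0,3], [2,0,2,0,2,4,6,0,3,0,6], [0,3,0,2,0,3,0,2,0,3,5], [3,0,2,0,3,0,2,0,3,4],
  [2,0,4,4,6,0,6,0,3], [3,0,3,6,2,6,0,6,0,6], [3,0,2,0,3,0,6,2,6,2,0,3], [0,6,0,6,0,6,3,6,2,0,2], [0,2,0,6,0,6,0,3], [6,0,3,0,2,0,6],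
  [0,4,4,6,0,3,0,2,0,6], [2,0,6,0,2,6,0,3,0,2,0,2], [0,2,0,3,6,2,6,2,6,0,6,0,3], [6,3,6,3,0,2,0,6,0,6], [2,0,3,6,2,6,2,0,3], [3,0,6,2,0,6,0,6,2,2,6,2,2],
  [0,3,0,2,0,3,0,2,0,3,4], [3,0,2,0,3,0,2,0,3,5], [0,2,0,2,0,2,4,6,0,3,0,6], [0,6,0,2,0,6,3,0,3,0,3], [6,0,6,0,6,3,6,2,0,2], [2,0,6,0,6,0,3],
  [4,4,6,0,3,0,2,0,6], [0,2,0,4,4,6,0,6,0,3], [0,3,0,3,6,2,6,0,6,0,6], [3,0,3,0,2,0,6,3,0,6,0,3], [2,0,3,0,2,6,0,6,0,6,2,6], [0,6,0,3,0,2,0,6],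
  [0,2,0,3,5,6,2,6,2,0,3], [2,0,2,0,6,2,0,2,0,2,2,0,6], [0,2,0,6,0,6,3,6,3,6,2,0,3], [2,0,3,4,6,2,6,2,0,3], [0,3,0,2,0,3,0,2,0,3,4,4], [2,0,2,0,2,6,0,3,0,6],
  [5,6,0,2,0,6,3,0,3,0,3], [3,0,2,0,3,0,2,0,3], [2,0,6,0,6,3,6,3,6,2,0,3], [0,2,0,3,4,6,2,6,2,0,3], [2,0,3,5,6,2,6,2,0,3], [2,0,3,4,6,2,6,2,6,0,6,0,3],
  [0,2,0,2,0,2,6,0,3,0,6], [3,0,2,0,3,0,2,0,3,4,4], [0,3,0,2,0,3,0,2,0,3], [0,5,6,0,2,0,6,3,0,3,0,3], [2,0,5,6,0,6,0,3], [0,2,0,3,6,2,2,6,2,0,3],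
  [6,2,2,6,2,0,3,6,2,2,6], [0,2,0,4,6,0,6,0,3], [2,0,6,2,6,3,0,6,0,3,0,6,3], [4,6,0,3,0,2,0,6], [0,5,6,0,3,0,2,0,6], [2,0,3,0,2,5,6,0,6,0,6,2,6],
  [3,0,3,5,6,2,6,0,6,0,6], [2,0,4,6,0,6,0,3], [0,2,0,5,6,0,6,0,3], [2,0,3,6,2,2,6,2,0,3], [5,6,0,3,0,2,0,6], [2,6,0,2,0,6,3,0,3,0,6,2,6],
  [2,0,3,0,2,4,6,0,6,0,6,2,6], [0,4,6,0,3,0,2,0,6]]

noncomputable def do4 : List (List ℕ) := [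
  [6,2,0,6,3,0,2,0,6,2], [2,2,0,3,6,3,6,0,6], [6,0,6,2,6,2,0,2,2], [0,6,2,2,6,0,3,0,3,0,2,6], [2,6,2,0,6,3,6,0,6,3,6], [0,3,0,3,0,3,6,0,2,6,3,6],
  [3,6,0,3,0,2,6,0,3,6], [6,2,6,0,6,2,6,0,3,6,3], [0,6,0,6,2,6,2,0,2,2], [6,2,2,6,0,3,0,3,0,2,6], [0,6,2,0,6,3,0,2,0,6,2], [0,2,2,0,3,6,3,6,0,6],
  [0,3,6,0,3,0,2,6,0,3,6], [0,6,2,6,0,6,2,6,0,3,6,3], [0,2,6,2,0,6,3,6,0,6,3,6], [3,0,3,0,3,6,0,2,6,3,6], [5,6,2,0,6,3,0,2,0,6,2], [2,2,0,3,5,6,3,6,0,6],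
  [5,6,0,6,2,6,2,0,2,2], [0,3,6,3,0,6,0,3,0,6,0,3], [0,2,2,0,2,0,6,2,6,0,2,6], [0,2,0,6,0,2,0,6,0,2,6,2], [3,5,6,0,3,0,2,6,0,3,6], [0,2,6,0,2,0,6,2,2,6,2,2],
  [2,2,0,3,4,6,3,6,0,6], [3,6,3,0,6,0,3,0,6,0,3], [0,5,6,2,0,6,3,0,2,0,6,2], [4,6,0,6,2,6,2,0,2,2], [0,3,5,6,0,3,0,2,6,0,3,6], [2,6,0,2,0,6,2,2,6,2,2],
  [2,2,0,2,0,6,2,6,0,2,6], [2,0,6,0,2,0,6,0,2,6,2], [6,0,6,2,0,2,0,2,6,2], [0,3,0,2,0,3,6,0,2,0,3], [0,2,6,0,3,0,2,6,3,0,6,2], [0,2,6,2,0,3,0,6,3,6],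
  [6,2,6,0,6,0,6,2,6,2], [2,0,3,0,2,0,2,0,6,3,0,2], [2,4,4,6,2,0,3,0,6,3,6], [0,6,3,0,2,2,6,2,2,0,2,6], [0,6,2,6,0,6,0,6,2,6,2], [2,2,0,6,3,6,0,6,2,6,2,6],
  [6,0,6,2,2,0,3,6,0,2,2], [6,3,0,2,2,6,2,2,0,2,6], [3,6,3,0,3,0,3,6,0,6], [3,0,2,0,3,6,0,2,0,3], [2,6,0,3,0,2,6,3,0,6,2], [2,6,2,0,3,0,6,3,6],
  [5,6,0,6,2,0,2,0,2,6,2], [0,3,0,2,0,3,5,6,0,2,0,3], [3,0,2,0,3,4,6,0,2,0,3], [3,0,6,0,3,6,0,3,0,6,3], [4,6,3,0,2,2,6,2,2,0,2,6], [0,2,5,6,2,0,3,0,6,3,6],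
  [0,3,0,2,6,2,6,3,6,3,0,2], [2,4,6,2,0,3,0,6,3,6], [0,3,0,2,0,3,4,6,0,2,0,3], [2,6,0,2,0,6,2,0,6,0,2], [3,5,6,3,0,3,0,3,6,0,6], [3,0,2,0,3,5,6,0,2,0,3],
  [0,2,4,6,2,0,3,0,6,3,6], [3,0,2,6,2,6,3,6,3,0,2], [2,5,6,2,0,3,0,6,3,6], [2,5,6,0,3,0,2,6,3,0,6,2], [0,3,6,3,6,0,6,0,6,3,6], [2,4,4,6,0,2,6,0,3,6,0,2],
  [3,0,6,2,0,6,3,0,6,3], [2,0,3,0,6,2,0,3,0,2], [2,0,6,2,2,6,0,2,6,3], [4,4,6,2,6,0,2,0,3,6,3], [0,6,2,6,0,2,0,3,6,3], [0,2,6,2,6,0,2,0,3,0,6,2],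
  [2,6,2,6,2,0,3,0,6], [0,2,0,2,6,0,6,2,2,6,3], [0,2,2,6,2,0,3,0,6,2,6], [3,0,2,4,6,0,2,2,0,2], [2,0,3,0,6,0,2,0,3], [2,6,0,2,0,2,6,0,6,2],
  [0,6,0,2,0,3,6,3,6,3], [0,2,0,3,0,4,4,6,0,2,0,3], [2,6,0,2,6,0,3,6,0,2], [0,2,0,3,0,6,2,0,3,0,2], [3,6,3,6,0,6,0,6,3,6], [2,0,6,2,6,3,0,2,0,6,0,2],
  [6,2,6,0,2,0,3,6,3], [2,6,2,6,0,2,0,3,0,6,2], [0,2,0,6,2,2,6,0,2,6,3], [2,2,0,6,2,0,2,2,6,0,6], [2,2,6,2,0,3,0,6,2,6], [3,6,0,6,3,0,3,0,6,3],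
  [0,2,6,2,6,2,0,3,0,6], [2,0,2,6,0,6,2,2,6,3], [6,0,2,0,3,6,3,6,3], [2,0,3,0,4,4,6,0,2,0,3], [0,2,0,3,0,6,0,2,0,3], [3,0,2,2,0,4,6,3,0,2],
  [0,2,0,3,0,5,6,2,0,3,0,2], [2,5,6,0,2,6,0,3,6,0,2], [5,6,2,6,0,2,0,3,6,3], [2,0,3,0,4,6,2,0,3,0,2], [3,0,4,6,2,0,6,3,0,6,3], [2,0,4,6,2,2,6,0,2,6,3],
  [0,2,0,5,6,2,2,6,0,2,6,3], [0,4,6,2,6,0,2,0,3,6,3], [2,4,6,0,2,6,0,3,6,0,2], [0,2,0,3,0,4,6,2,0,3,0,2], [2,0,5,6,2,2,6,0,2,6,3], [3,0,5,6,2,0,6,3,0,6,3],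
  [2,0,3,0,5,6,2,0,3,0,2], [4,6,2,6,0,2,0,3,6,3], [0,5,6,2,6,0,2,0,3,6,3], [0,2,0,4,6,2,2,6,0,2,6,3], [2,2,4,6,2,0,3,0,6,2,6], [2,5,6,2,6,2,0,3,0,6],
  [2,0,2,4,6,0,6,2,2,6,3], [3,0,2,6,0,2,2,0,2], [2,0,3,0,5,6,0,2,0,3], [0,3,0,2,2,0,6,3,0,2], [0,5,6,0,2,0,3,6,3,6,3], [0,2,0,3,0,4,6,0,2,0,3],
  [0,3,0,2,6,0,2,2,0,2], [2,2,5,6,2,0,3,0,6,2,6], [0,2,5,6,2,6,2,0,3,0,6], [2,0,2,5,6,0,6,2,2,6,3], [5,6,0,2,0,3,6,3,6,3], [2,0,3,0,4,6,0,2,0,3],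
  [0,2,0,3,0,5,6,0,2,0,3], [3,0,2,2,0,6,3,0,2]]

noncomputable def ow4 : List (ℕ × List ℕ) := [
  (0,[4,4,6,0,6,2,2,0,3,0]), (0,[]), (0,[6,2,6,3,6,0,6,2,2,0,3]), (0,[2,0,2,6,2,0,3,6,2,2,0]), (0,[6,3,6,2,0,2,2,6,2,6]), (0,[5,6,3,0,3,0,2,0,2,6,3,0]),
  (0,[2,5,6,0,2,0,2,2,0,6,3]), (0,[2,2,6,3,0,3,0,2,0,2,6,2]), (0,[0,2,2,6,2,2,6,0,2,0]), (0,[3,0,6,3,0,2,0,2,6,0,2]), (0,[0,3,0,3,0,2,0,6,0,2,6,3]), (0,[0,5,6,0,6,2,0,2,6,2,6]),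
  (0,[3,0,3,0,2,2]), (0,[2,2,0,6,2,0,2,2,0,3,0,6]), (0,[0,3,4,6,3,0,2,0,6]), (0,[0,2,2,0,3,0,6,2,2,6]), (0,[3,0,2,2,5,6,3,6,3,0]), (0,[0,4,4,6,0,6,0,2,6,2,6]),
  (0,[0,2,0,6,0,2,6,0,2,0]), (0,[2,2,5,6,0,3,0,3,0,2,0,6]), (0,[3,0,5,6,2,0,6,2]), (0,[6,0,3,0,3,0,2,6,0,2,2]), (0,[2,6,2,2,6,0,6,3,6,3]), (0,[2,5,6,2,0,6,2,0,2,0]),
  (0,[2,2,6,0,3,0,3,0,2,2,6,3]), (0,[2,0,2,0,2,2]), (0,[2,4,6,3,6,0,2,0,3,0,3]), (0,[3,6,0,2,6,2,0,3,0]), (0,[0,3,6,2,0,2,2,6,2,0]), (0,[3,0,3,4,6,0,3,0,2,2,0,6]),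
  (0,[2,6,3,6,0,2,0,3,0,3,0]), (0,[0,2,0,6,0,2,0,2,6])]

noncomputable def reps4 : List OutRep := [
  ⟨[0,6,3,0,2,2,6,2,2,0,2,6], [0,2,6,0,3,0,2,0,6,3], [2,0,2,2,6,0,6,2,6,3,6], [[2,6,0,2,0,6,2,0,6,0,2]]⟩]

/-- The lists. -/
noncomputable def dat4 : Dat := ⟨de4, do4, ow4, reps4⟩

noncomputable def small4 : List (List ℕ) := [
  [5,21,48,35,51,17,32,49], [5,21,51,35,48,17,49,32], [5,21,35,48,51,17,32,49], [5,21,51,48,35,17,49,32], [21,5,51,48,35,17,49,32], [21,5,35,48,51,17,32,49],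
  [21,5,51,35,48,17,49,32], [21,5,48,35,51,17,32,49], [51,48,35,5,21,32,49,17], [51,35,48,5,21,32,49,17], [35,48,51,5,21,49,32,17], [48,35,51,5,21,49,32,17],
  [48,35,51,21,5,49,32,17], [35,48,51,21,5,49,32,17], [51,35,48,21,5,32,49,17], [51,48,35,21,5,32,49,17], [17,32,49,5,21,35,48,51], [17,32,49,5,21,48,35,51],
  [17,49,32,5,21,51,48,35], [17,49,32,5,21,51,35,48], [17,49,32,21,5,51,35,48], [17,49,32,21,5,51,48,35], [17,32,49,21,5,48,35,51], [17,32,49,21,5,35,48,51],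
  [32,49,17,51,35,48,5,21], [49,32,17,48,35,51,5,21], [32,49,17,51,48,35,5,21], [49,32,17,35,48,51,5,21], [49,32,17,35,48,51,21,5], [49,32,17,48,35,51,21,5],
  [32,49,17,51,48,35,21,5], [32,49,17,51,35,48,21,5]]

theorem smallOk4 : dat4.smallOk (4 : Fin 12) cert4 small4 = true := by decide +kernel

theorem dok4 : dat4.Ok (4 : Fin 12) cert4 :=
  ⟨by decide +kernel, ⟨_, smallOk4⟩, by decide +kernel, by decide +kernel, by decide +kernel⟩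

theorem fourth4 : Dat.cnt4 (4 : Fin 12) cert4 dat4.Do [4, 4] = 0 := by decide +kernel

theorem roots4 : Dat.cnt2 (4 : Fin 12) cert4 dat4.Do [4, 4] = 0 ∧
    Dat.cnt2 (4 : Fin 12) cert4 dat4.Do [0] = 16 := by decide +kernel

theorem noTypeB4 : dat4.noTypeBOk (4 : Fin 12) cert4 = true := by decide +kernel

end CfsgLib.StdON.ModelData
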