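import Cfsg.Agent.Lib.ONanRec.PinData.C5
import Cfsg.Agent.Lib.StdON.ModelCheck

/-!
The lists for candidate 5 (generated).
-/

set_option autoImplicit false
set_option maxRecDepth 100000
set_option maxHeartbeats 4000000

namespace CfsgLib.StdON.ModelData

open ONanRec.PinData

noncomputable def de5 : List (List ℕ) := [
  [], [0,2,0,2,0,6,0,6,0,6,3,0,7], [2,0,2,0,6,0,6,0,6,3,0,7], [0], [2,0,2,0,3,0,3,6,3,0,3,7,2], [4],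
  [2,0,2,0,3,0,3,6,3,0,3,6,2], [5], [0,2,2,6,3,0,6,0,2], [2,0,3,0,2,0,3,0,2,4,4], [2,0,2,0,4,6,0,6,0,6,3,0,7], [0,4],
  [2,0,2,0,4,6,0,6,0,6,3,0,6], [0,5], [6,0,2,0,6,3,0,3,0,3], [0,3,0,2,0,3,0,2,0,3,5], [0,2,0,2,0,6,0,6,0,6,3,0,6], [4,4],
  [2,2,6,3,0,6,0,2], [0,2,0,3,0,2,0,3,0,2,4,4], [3,0,6,0,2,6,2,2], [2,0,3,0,2,0,3,0,2,5], [3,0,6,0,2,7,2,2], [2,0,3,0,2,0,3,0,2,4],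
  [2,0,2,0,6,0,6,0,6,3,0,6], [0,4,4], [2,0,3,6,2,7,0,2,0,3,0,2], [0,3,0,3,4,6,0,6,2,0,2], [0,6,0,2,0,6,3,0,3,0,3], [3,0,2,0,3,0,2,0,3,5],
  [0,2,0,2,0,2,6,0,3,0,6], [0,3,0,2,0,3,0,2,0,3], [0,2,0,2,0,2,6,0,3,0,7], [0,2,2,6,0,6,3,0,6,0,3,7], [0,2,0,3,6,2,2,7,2,0,3], [2,0,4,6,0,7,0,3],
  [0,3,0,6,0,2,6,2,2], [0,2,0,3,0,2,0,3,0,2,5], [0,3,0,6,0,2,7,2,2], [0,2,0,3,0,2,0,3,0,2,4], [0,2,2,6,3,0,7,0,2], [2,0,3,0,2,0,3,0,2],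
  [3,0,3,4,6,0,6,2,0,2], [3,0,2,0,3,0,6,3,7,2,0,3], [3,0,2,2,0,6,2,0,6,3,0,2], [0,3,0,3,6,0,7,2,0,2], [3,0,2,2,0,6,2,0,7,3,0,2], [0,3,0,3,6,0,6,2,0,2],
  [2,0,2,0,2,6,0,3,0,6], [3,0,2,0,3,0,2,0,3], [2,0,2,0,2,6,0,3,0,7], [2,2,6,0,6,3,0,6,0,3,7], [6,0,2,0,7,3,0,3,0,3], [0,3,0,2,0,3,0,2,0,3,4],
  [2,0,6,2,6,3,0,6,0,3,0,7,3], [4,6,0,3,0,2,0,7], [2,0,6,2,6,3,0,6,0,3,0,6,3], [4,6,0,3,0,2,0,6], [2,0,3,4,6,3,6,2,0,3], [2,2,0,3,6,0,2,0,2,7,2],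
  [2,0,3,4,6,3,7,2,0,3], [2,2,0,3,6,0,2,0,2,6,2], [0,2,0,4,6,0,7,0,3], [2,0,3,6,2,2,7,2,0,3], [2,0,6,0,6,0,3], [3,0,3,6,2,6,0,6,0,7],
  [2,0,6,0,7,0,3], [3,0,3,6,2,6,0,6,0,6], [2,2,6,3,0,7,0,2], [0,2,0,3,0,2,0,3,0,2], [2,0,3,0,2,6,0,6,0,6,2,6], [0,6,0,3,0,2,0,6],
  [0,6,0,3,0,2,0,7], [2,0,3,0,2,6,0,6,0,6,2,7], [3,0,2,0,3,0,6,2,6,2,0,3], [6,0,3,0,2,0,7], [3,0,2,0,3,0,6,2,7,2,0,3], [6,0,3,0,2,0,6],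
  [0,2,0,4,6,0,6,0,3], [2,0,3,6,2,2,6,2,0,3], [0,2,0,3,4,6,3,6,2,0,3], [0,2,2,0,3,6,0,2,0,2,7,2], [0,2,0,3,4,6,3,7,2,0,3], [0,2,2,0,3,6,0,2,0,2,6,2],
  [3,0,3,6,0,7,2,0,2], [2,6,0,3,6,2,6,2,0,3,6,2], [3,0,3,6,0,6,2,0,2], [2,6,0,3,6,2,6,2,0,3,7,2], [2,0,3,6,2,6,0,2,0,3,0,2], [0,3,0,3,4,6,0,7,2,0,2],
  [0,6,0,2,0,7,3,0,3,0,3], [3,0,2,0,3,0,2,0,3,4], [2,0,3,6,2,6,2,6,0,6,0,3], [2,0,3,6,2,7,2,0,3], [2,0,3,6,2,6,2,6,0,7,0,3], [2,0,3,6,2,6,2,0,3],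
  [2,0,3,6,3,7,2,0,3], [0,3,6,3,0,3,0,6,2,0,2,2], [0,3,6,3,0,3,0,7,2,0,2,2], [2,0,3,6,3,6,2,0,3], [3,0,2,0,3,0,6,3,6,2,0,3], [3,0,3,4,6,0,7,2,0,2],
  [0,4,6,0,3,0,2,0,7], [2,0,3,0,2,4,6,0,6,0,6,2,7], [0,4,6,0,3,0,2,0,6], [2,0,3,0,2,4,6,0,6,0,6,2,6], [3,6,3,0,3,0,7,2,0,2,2], [0,2,0,3,6,3,6,2,0,3],
  [3,6,3,0,3,0,6,2,0,2,2], [0,2,0,3,6,3,7,2,0,3], [0,2,0,6,0,6,0,3], [0,3,0,3,6,2,6,0,6,0,7], [0,2,0,6,0,7,0,3], [0,3,0,3,6,2,6,0,6,0,6],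
  [2,0,4,6,0,6,0,3], [0,2,0,3,6,2,2,6,2,0,3], [0,2,0,3,6,2,6,2,6,0,6,0,3], [0,2,0,3,6,2,7,2,0,3], [0,2,0,3,6,2,6,2,0,3], [0,2,0,3,6,2,6,2,6,0,7,0,3],
  [2,0,3,4,6,2,7,2,0,3], [0,2,0,6,0,6,3,6,3,7,2,0,3], [2,0,3,4,6,2,6,2,0,3], [0,2,0,6,0,6,3,6,3,6,2,0,3], [0,2,0,3,4,6,2,6,2,0,3], [2,0,6,0,6,3,6,3,6,2,0,3],
  [0,2,0,3,4,6,2,7,2,0,3], [2,0,6,0,6,3,6,3,7,2,0,3]]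

noncomputable def do5 : List (List ℕ) := [
  [2,0,6,2,2,6,0,2,7,3], [6,2,6,0,2,0,3,7,3], [2,0,6,2,2,6,0,2,6,3], [6,2,6,0,2,0,3,6,3], [3,6,0,3,0,2,6,0,3,6], [6,2,6,0,6,2,6,0,3,6,3],
  [3,6,0,3,0,2,6,0,3,7], [6,2,6,0,6,2,6,0,3,7,3], [0,2,0,3,0,4,7,0,2,0,3], [3,0,2,2,0,7,3,0,2], [0,2,0,3,0,4,6,0,2,0,3], [3,0,2,2,0,6,3,0,2],
  [2,0,4,6,2,2,6,0,2,7,3], [4,6,2,6,0,2,0,3,7,3], [2,0,4,6,2,2,6,0,2,6,3], [4,6,2,6,0,2,0,3,6,3], [0,2,0,6,2,2,6,0,2,7,3], [0,6,2,6,0,2,0,3,7,3],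
  [0,2,0,6,2,2,6,0,2,6,3], [0,6,2,6,0,2,0,3,6,3], [2,0,6,0,2,0,6,0,2,6,2], [2,2,0,2,0,6,2,6,0,2,7], [2,0,6,0,2,0,6,0,2,7,2], [2,2,0,2,0,6,2,6,0,2,6],
  [2,6,2,0,6,3,6,0,6,3,7], [0,3,6,0,3,0,2,6,0,3,6], [2,6,2,0,3,0,6,3,6], [2,6,0,3,0,2,6,3,0,7,2], [2,6,2,0,6,3,6,0,6,3,6], [0,3,6,0,3,0,2,6,0,3,7],
  [2,6,2,0,3,0,6,3,7], [2,6,0,3,0,2,6,3,0,6,2], [2,6,0,2,0,6,2,0,7,0,2], [0,3,0,2,0,3,4,7,0,2,0,3], [2,6,0,2,0,6,2,0,6,0,2], [0,3,0,2,0,3,4,6,0,2,0,3],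
  [0,2,0,3,0,7,2,0,3,0,2], [2,6,0,2,6,0,3,7,0,2], [0,2,0,3,0,6,2,0,3,0,2], [2,6,0,2,6,0,3,6,0,2], [0,6,0,2,0,3,6,3,7,3], [0,2,0,3,0,6,0,2,0,3],
  [0,6,0,2,0,3,6,3,6,3], [0,2,0,3,0,7,0,2,0,3], [0,3,0,2,2,0,7,3,0,2], [2,0,3,0,4,7,0,2,0,3], [0,3,0,2,2,0,6,3,0,2], [2,0,3,0,4,6,0,2,0,3],
  [0,2,0,4,6,2,2,6,0,2,7,3], [0,4,6,2,6,0,2,0,3,7,3], [0,2,0,4,6,2,2,6,0,2,6,3], [0,4,6,2,6,0,2,0,3,6,3], [2,0,3,0,4,7,2,0,3,0,2], [3,0,4,6,2,0,6,3,0,7,3],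
  [2,0,3,0,4,6,2,0,3,0,2], [3,0,4,6,2,0,6,3,0,6,3], [0,2,0,6,0,2,0,6,0,2,6,2], [2,6,0,2,0,6,2,2,6,2,2], [2,4,6,2,0,3,0,6,3,6], [0,3,0,2,6,2,6,3,7,3,0,2],
  [0,2,0,6,0,2,0,6,0,2,7,2], [2,6,0,2,0,6,2,2,7,2,2], [2,4,6,2,0,3,0,6,3,7], [0,3,0,2,6,2,6,3,6,3,0,2], [0,2,0,3,0,4,7,2,0,3,0,2], [2,4,6,0,2,6,0,3,7,0,2],
  [0,2,6,2,0,3,0,6,3,6], [6,3,0,2,2,6,2,2,0,2,6], [0,2,0,3,0,4,6,2,0,3,0,2], [2,4,6,0,2,6,0,3,6,0,2], [0,2,6,2,0,3,0,6,3,7], [6,3,0,2,2,6,2,2,0,2,7],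
  [3,0,6,0,3,6,0,3,0,7,3], [3,0,2,0,3,4,7,0,2,0,3], [3,0,6,0,3,6,0,3,0,6,3], [3,0,2,0,3,4,6,0,2,0,3], [3,0,6,2,0,6,3,0,7,3], [2,0,3,0,7,2,0,3,0,2],
  [3,0,6,2,0,6,3,0,6,3], [2,0,3,0,6,2,0,3,0,2], [6,0,6,2,0,2,0,2,6,2], [0,3,0,2,0,3,6,0,2,0,3], [6,0,6,2,0,2,0,2,7,2], [0,3,0,2,0,3,7,0,2,0,3],
  [6,0,2,0,3,6,3,7,3], [2,0,3,0,6,0,2,0,3], [6,0,2,0,3,6,3,6,3], [2,0,3,0,7,0,2,0,3], [2,2,0,3,6,3,6,0,7], [6,2,0,6,3,0,2,0,6,2],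
  [2,2,0,3,6,3,6,0,6], [6,2,0,6,3,0,2,0,7,2], [3,6,3,0,3,0,3,6,0,7], [3,0,2,0,3,7,0,2,0,3], [3,6,3,0,3,0,3,6,0,6], [3,0,2,0,3,6,0,2,0,3],
  [3,0,2,6,2,6,3,7,3,0,2], [0,2,4,6,2,0,3,0,6,3,6], [3,0,2,6,2,6,3,6,3,0,2], [0,2,4,6,2,0,3,0,6,3,7], [2,2,0,3,4,6,3,6,0,6], [3,6,3,0,6,0,3,0,7,0,3],
  [2,2,0,3,4,6,3,6,0,7], [3,6,3,0,6,0,3,0,6,0,3], [6,0,6,2,6,2,0,2,2], [0,6,2,0,6,3,0,2,0,6,2], [6,0,6,2,7,2,0,2,2], [0,6,2,0,6,3,0,2,0,7,2],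
  [2,0,2,4,6,0,6,2,2,6,3], [3,0,2,6,0,2,2,0,2], [2,0,2,4,6,0,6,2,2,7,3], [3,0,2,7,0,2,2,0,2], [4,6,0,6,2,7,2,0,2,2], [0,3,6,3,0,6,0,3,0,7,0,3],
  [4,6,0,6,2,6,2,0,2,2], [0,3,6,3,0,6,0,3,0,6,0,3], [2,2,6,2,0,3,0,6,2,6], [2,6,2,6,2,0,3,0,6], [2,2,6,2,0,3,0,6,2,7], [2,6,2,6,2,0,3,0,7],
  [2,0,2,6,0,6,2,2,6,3], [0,2,6,2,6,2,0,3,0,7], [2,0,2,6,0,6,2,2,7,3], [0,2,6,2,6,2,0,3,0,6], [2,2,4,6,2,0,3,0,6,2,7], [0,3,0,2,6,0,2,2,0,2],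
  [2,2,4,6,2,0,3,0,6,2,6], [0,3,0,2,7,0,2,2,0,2]]

noncomputable def ow5 : List (ℕ × List ℕ) := [
]

noncomputable def reps5 : List OutRep := [
]

/-- The lists. -/
noncomputable def dat5 : Dat := ⟨de5, do5, ow5, reps5⟩

noncomputable def small5 : List (List ℕ) := [
  [0,5,14,31,21,45,20,8], [5,0,14,31,45,21,8,20], [0,5,21,31,14,8,20,45], [5,0,21,31,14,20,8,45], [0,5,45,20,8,21,31,14], [5,0,45,8,20,21,31,14],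
  [45,0,5,21,8,20,14,31], [45,5,0,21,20,8,14,31], [14,8,20,31,0,5,45,21], [14,20,8,31,5,0,45,21], [31,0,5,21,14,45,8,20], [31,5,0,21,14,45,20,8],
  [31,0,5,45,21,20,8,14], [31,5,0,45,21,8,20,14], [21,31,20,8,0,5,14,45], [21,31,8,20,5,0,14,45], [14,45,0,5,20,8,21,31], [14,45,5,0,8,20,21,31],
  [31,21,14,45,0,20,5,8], [45,31,14,8,0,20,5,21], [31,21,14,45,5,8,0,20], [45,31,14,20,5,8,0,21], [8,20,14,21,45,31,0,5], [20,8,14,21,45,31,5,0],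
  [21,31,8,20,0,5,45,14], [21,31,20,8,5,0,45,14], [14,45,8,20,31,0,5,21], [14,45,20,8,31,5,0,21], [20,8,14,21,45,0,5,31], [8,20,14,21,45,5,0,31],
  [45,20,8,14,31,21,0,5], [45,8,20,14,31,21,5,0]]

theorem smallOk5 : dat5.smallOk (5 : Fin 12) cert5 small5 = true := by decide +kernel

theorem dok5 : dat5.Ok (5 : Fin 12) cert5 :=
  ⟨by decide +kernel, ⟨_, smallOk5⟩, by decide +kernel, by decide +kernel, by decide +kernel⟩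

theorem fourth5 : Dat.cnt4 (5 : Fin 12) cert5 dat5.Do [4, 4] = 0 := by decide +kernel

theorem roots5 : Dat.cnt2 (5 : Fin 12) cert5 dat5.Do [4, 4] = 32 ∧
    Dat.cnt2 (5 : Fin 12) cert5 dat5.Do [0] = 16 := by decide +kernel

end CfsgLib.StdON.ModelData
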