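import Cfsg.Agent.Lib.ONanRec.PinData.C6
import Cfsg.Agent.Lib.StdON.ModelCheck

/-!
The lists for candidate 6 (generated).
-/

set_option autoImplicit false
set_option maxRecDepth 100000
set_option maxHeartbeats 4000000

namespace CfsgLib.StdON.ModelData

open ONanRec.PinData

noncomputable def de6 : List (List ℕ) := [
  [0,2,0,6,0,3,0,2,0,6,0,3], [2,0,2,0,3,4,6,0,2,0,2,0,6], [], [5,6,0,3,0,3,0,2,6,0,3,0,3], [2,0,6,0,3,0,2,0,6,0,3], [0,2,0,2,0,3,4,6,0,2,0,2,0,6],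
  [0], [0,5,6,0,3,0,3,0,2,6,0,3,0,3], [2,2,0,2,2,0,2,0,2,2,0,2,2], [0,2,0,3,0,2,0,3,0,2,4,4], [2,0,6,0,2,2,0,2,0,3,0,2,6,0,3], [3,0,2,0,3,0,2,0,3,4,4],
  [0,2,0,4,6,0,3,0,2,0,6,0,3], [4], [2,0,2,0,3,4,4,6,0,2,0,2,0,6], [6,0,3,0,3,0,2,6,0,3,0,3], [2,0,2,0,3,6,0,2,0,2,0,6], [5],
  [4,4,6,0,3,0,3,0,2,6,0,3,0,3], [0,2,0,5,6,0,3,0,2,0,6,0,3], [2,0,4,6,0,3,0,2,0,6,0,3], [0,4], [0,2,0,2,0,3,4,4,6,0,2,0,2,0,6], [0,6,0,3,0,3,0,2,6,0,3,0,3],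
  [0,2,0,2,0,3,6,0,2,0,2,0,6], [0,5], [0,4,4,6,0,3,0,3,0,2,6,0,3,0,3], [2,0,5,6,0,3,0,2,0,6,0,3], [2,2,0,2,2,0,3,0,2,2,0,2,2], [2,0,3,0,2,0,3,0,2,4,4],
  [2,0,3,6,0,2,0,3,0,2,2,0,6,0,3], [0,3,0,2,0,3,0,2,0,3,4,4], [2,2,0,2,2,0,2,0,2,2,0,2,2,4], [2,0,3,6,0,3,0,2,0,6,0,2,0,2,0,3], [0,2,0,3,0,2,0,3,0,2,5], [3,0,2,0,3,0,2,0,3,5],
  [0,2,0,3,0,2,0,3,0,2,4], [2,0,5,6,0,2,2,0,2,0,3,0,2,6,0,3], [3,0,2,0,3,0,2,0,3,4], [2,2,0,2,2,0,2,0,2,2,0,2,2,5], [0,3,0,2,2,0,2,2,6,0,2,0,3,6], [2,0,3,0,2,0,3,0,2,6,0,6],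
  [2,0,2,0,2,0,4,4,6,0,3,6,0,3,0,3], [0,3,0,2,0,3,0,2,0,3,6,0,6], [4,4], [2,0,2,0,3,5,6,0,2,0,2,0,6], [0,2,0,4,4,6,0,3,0,2,0,6,0,3], [4,6,0,3,0,3,0,2,6,0,3,0,3],
  [0,4,4], [0,2,0,2,0,3,5,6,0,2,0,2,0,6], [2,0,4,4,6,0,3,0,2,0,6,0,3], [0,4,6,0,3,0,3,0,2,6,0,3,0,3], [2,2,0,2,2,0,3,0,2,2,0,2,2,4], [2,0,3,4,6,0,2,0,3,0,2,2,0,6,0,3],
  [2,0,3,0,2,0,3,0,2,5], [0,3,0,2,0,3,0,2,0,3,5], [2,0,3,0,2,0,3,0,2,4], [2,0,3,0,3,0,6,0,3,0,2,0,2,6,0,3], [0,3,0,2,0,3,0,2,0,3,4], [2,2,0,2,2,0,3,0,2,2,0,2,2,5],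
  [3,6,0,3,0,3,6,0,3,0,3,0,6,0,3,6], [2,0,3,0,2,0,3,0,2], [6,0,2,0,3,0,2,2,6,0,2,2,0,2], [0,3,0,2,0,3,0,2,0,3], [2,0,6,0,2,6,0,2,0,2,6,0,2,0,2,6], [0,2,0,3,0,2,0,3,0,2],
  [3,0,2,2,0,2,2,6,0,2,0,3,0,6], [3,0,2,0,3,0,2,0,3], [0,2,2,0,3,6,0,3,6,0,3,6,0,2,6], [0,6,0,3,6,0,2,0,3,0,2,0,3], [2,0,2,0,2,0,5,6,0,3,6,0,3,0,3], [0,3,0,2,0,3,0,2,0,3,4,6,0,6],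
  [2,0,3,0,2,0,3,0,2,5,6,0,6], [6,0,2,6,0,3,0,2,0,3,0,2], [3,6,0,3,6,0,2,2,0,2,6,0,2,6], [2,0,2,0,2,0,4,6,0,3,6,0,3,0,3], [3,0,2,2,0,2,2,6,0,2,0,3,6], [0,2,0,3,0,2,0,3,0,2,6,0,6],
  [0,2,0,2,0,2,0,4,4,6,0,3,6,0,3,0,3], [3,0,2,0,3,0,2,0,3,6,0,6], [6,0,6], [0,2,0,6,0,3,0,2,0,6,0,3,6,0,6], [2,0,2,0,3,4,6,0,2,0,2,6], [2,0,2,6,0,2,0,2,0,2,2,6,0,2,0,3],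
  [0,6,0,6], [2,0,6,0,3,0,2,0,6,0,3,6,0,6], [0,2,0,2,0,3,4,6,0,2,0,2,6], [0,2,0,2,6,0,2,0,2,0,2,2,6,0,2,0,3], [2,0,2,0,2,0,6,0,3,6,0,3,0,3], [0,2,6,0,3,0,2,2,6,0,2,2,0,2],
  [0,4,6,0,3,6,0,2,0,3,0,2,0,3], [5,6,0,2,6,0,3,0,2,0,3,0,2], [2,2,0,3,6,0,3,6,0,3,6,0,2,6], [6,0,3,6,0,2,0,3,0,2,0,3], [0,2,0,2,0,2,0,5,6,0,3,6,0,3,0,3], [3,0,2,0,3,0,2,0,3,4,6,0,6],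
  [0,2,0,3,0,2,0,3,0,2,5,6,0,6], [0,6,0,2,6,0,3,0,2,0,3,0,2], [2,4,6,0,3,0,2,2,6,0,2,2,0,2], [0,2,0,2,0,2,0,4,6,0,3,6,0,3,0,3], [0,2,0,2,0,2,0,6,0,3,6,0,3,0,3], [2,6,0,3,0,2,2,6,0,2,2,0,2],
  [4,6,0,3,6,0,2,0,3,0,2,0,3], [0,5,6,0,2,6,0,3,0,2,0,3,0,2], [0,3,5,6,0,3,0,2,6,0,3,0,3], [6,0,3,0,3,0,2,6,0,3,0,3,6,0,6], [0,2,0,4,6,0,3,0,2,0,6,0,3,6,0,6], [4,6,0,6],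
  [3,0,3,0,2,0,2,0,3,0,3,0,2,0,2], [2,0,2,0,3,6,0,2,0,2,6], [5,6,0,6], [0,2,0,3,0,2,2,6,0,3,0,3,0,3,6,0,3], [3,5,6,0,3,0,2,6,0,3,0,3], [0,6,0,3,0,3,0,2,6,0,3,0,3,6,0,6],
  [2,0,4,6,0,3,0,2,0,6,0,3,6,0,6], [0,4,6,0,6], [2,0,2,2,6,0,3,0,2,0,2,2,6,0,3], [0,2,0,2,0,3,6,0,2,0,2,6], [0,5,6,0,6], [2,0,3,0,2,2,6,0,3,0,3,0,3,6,0,3],
  [0,6,0,2,0,6,0,3,6,0,2,0,6,0,3], [0,3,6,0,3,0,2,6,0,3,0,3], [4,4,6,0,6], [0,6,0,2,6,0,2,0,3,6,0,2,0,2,0,6], [6,0,2,0,6,0,3,6,0,2,0,6,0,3], [3,6,0,3,0,2,6,0,3,0,3],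
  [0,4,4,6,0,6], [6,0,2,6,0,2,0,3,6,0,2,0,2,0,6]]

noncomputable def do6 : List (List ℕ) := [
  [0,2,2,5,6,0,2,2,6,0,2,2,6], [2,0,3,0,3,6,0,3,0,6,0,2,6,0,2,2], [2,0,3,6,0,2,0,2,0,3,0,3,6,0,2,6], [6,0,2,0,2,0,3,0,3,6,0,2,6,0,2], [0,3,0,6,0,2,0,6,0,3,0,6,0,2], [3,0,3,0,2,2,0,2,4,4,6,0,2,2,0,2],
  [2,6,0,2,6,0,2,2,0,2,6,0,2,2], [0,2,0,2,0,6,0,2,6,0,2,0,2,0,6,0,2], [2,2,5,6,0,2,2,6,0,2,2,6], [3,0,3,4,6,0,2,0,6,0,2,0,2,0,3,6], [3,0,6,0,2,0,2,6,0,3,0,2,0,2,2,6], [3,0,2,2,0,3,4,6,0,2,2,0,2,0,2],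
  [2,0,3,4,6,0,2,0,2,0,3,0,3,6,0,2,6], [0,3,0,2,5,6,0,3,0,2,2,0,6,0,3,0,6], [0,2,2,6,0,2,2,6,0,2,2,6], [3,0,6,0,3,0,3,6,0,3,0,6,0,3,0,3], [0,2,2,4,4,6,0,2,2,6,0,2,2,6], [0,3,0,3,6,0,2,0,6,0,2,0,2,0,3,6],
  [2,0,3,0,3,0,2,2,0,3,6,0,2,2,0,2], [0,3,0,2,2,0,3,6,0,2,2,0,2,0,2], [3,0,2,6,0,3,0,2,2,0,6,0,3,6], [0,2,0,2,0,2,2,6,0,2,2,6,0,2,6,0,3], [2,2,4,6,0,2,2,6,0,2,2,0,6], [3,0,3,0,2,2,0,3,0,2,0,3,5,6],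
  [3,0,2,6,0,3,0,2,2,0,6,0,3,0,6], [3,6,0,2,6,0,2,0,3,0,3,0,2,6,0,3], [2,2,4,6,0,2,2,6,0,2,2,6], [3,0,2,2,0,3,5,6,0,2,2,0,2,0,2], [0,2,2,0,3,6,0,2,2,0,3,6,0,3,0,6], [2,0,6,0,2,2,6,0,2,0,3,6,0,2],
  [0,3,0,2,0,2,0,2,2,6,0,3,0,3,0,2], [0,2,5,6,0,3,0,2,0,2,2,0,2,0,2], [0,3,0,4,6,0,2,0,6,0,3,0,6,0,2], [3,0,3,0,2,2,0,2,5,6,0,2,2,0,2], [2,2,0,2,2,0,3,5,6,0,2,2,0,2,2], [2,2,0,3,0,6,0,2,6,0,2,6,0,2,0,3],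
  [3,0,3,0,2,2,0,2,4,6,0,2,2,0,2], [2,2,0,2,2,0,3,4,6,0,2,2,0,2,2], [0,3,0,5,6,0,2,0,6,0,3,0,6,0,2], [0,3,6,0,2,2,0,2,0,3,0,2,0,2,0,2], [3,0,6,0,2,0,6,0,3,0,6,0,2], [2,0,2,0,6,0,2,0,2,6,0,2,0,6,0,2],
  [2,2,0,3,6,0,2,2,0,3,6,0,3,6], [2,0,2,0,6,0,2,6,0,2,0,2,0,6,0,2], [3,0,4,6,0,2,0,2,6,0,3,0,2,0,2,2,6], [3,0,2,5,6,0,3,0,2,2,0,6,0,3,0,6], [2,2,6,0,2,2,6,0,2,2,6], [2,2,6,0,2,6,0,2,2,0,2,6,0,2,0,2],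
  [2,2,4,4,6,0,2,2,6,0,2,2,6], [3,0,3,6,0,2,0,6,0,2,0,2,0,3,6], [3,0,2,2,0,2,6,0,2,2,0,2,0,2,0,3], [3,0,2,2,0,3,6,0,2,2,0,2,0,2], [0,3,0,2,6,0,3,0,2,2,0,6,0,3,0,6], [2,2,6,0,3,0,2,0,3,6,0,3,0,6,0,2],
  [0,2,2,4,6,0,2,2,6,0,2,2,6], [3,6,0,3,0,3,0,2,2,6,0,2,6,0,3], [3,0,6,0,3,6,0,3,0,3,0,2,6,0,3,0,2], [0,2,6,0,2,0,2,0,3,6,0,2,6,0,3], [2,2,4,4,6,0,2,2,6,0,2,2,0,6], [3,0,3,0,2,2,0,3,0,2,0,3,6],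
  [2,2,6,0,2,2,6,0,2,2,0,6], [3,0,2,0,2,2,6,0,3,0,3,0,3,6,0,2,6], [0,2,6,0,2,0,3,0,3,6,0,2,6,0,2], [3,0,3,0,2,2,0,3,0,2,0,3,4,4,6], [0,3,0,2,6,0,3,0,2,2,0,6,0,3,6], [2,0,2,0,2,2,6,0,2,2,6,0,2,6,0,3],
  [4,6,0,2,2,0,2,2,6,0,2,2,6], [0,3,0,3,0,2,2,0,3,0,2,0,3,5,6], [0,2,0,3,6,0,2,6,0,3,0,3,0,3,6], [4,6,0,2,0,2,6,0,2,2,0,2,6,0,2,2], [2,0,3,0,3,0,2,2,0,2,0,2,0,3,4,6], [0,2,4,4,6,0,3,0,2,0,2,2,0,2,0,2],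
  [5,6,0,2,0,2,6,0,2,2,0,2,6,0,2,2], [2,0,3,0,3,0,2,2,0,2,0,2,0,3,5,6], [0,3,0,3,6,0,2,6,0,2,0,3,0,3,6], [0,2,6,0,3,0,2,0,2,2,0,2,0,2], [2,2,0,3,6,0,2,2,0,3,6,0,3,0,6], [0,2,0,6,0,2,2,6,0,2,0,3,6,0,2],
  [3,0,2,0,2,0,2,2,6,0,3,0,3,0,2], [2,5,6,0,3,0,2,0,2,2,0,2,0,2], [2,2,0,2,2,0,3,6,0,2,2,0,2,2], [3,0,3,0,2,2,0,2,6,0,2,2,0,2], [0,3,0,4,4,6,0,2,0,6,0,3,0,6,0,2], [0,2,6,0,3,0,3,0,6,0,3,0,2,6,0,2],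
  [3,0,4,6,0,2,0,6,0,3,0,6,0,2], [3,0,3,6,0,2,6,0,2,0,3,0,3,0,6], [2,2,0,2,2,0,2,5,6,0,2,2,0,2,2], [2,5,6,0,3,0,3,0,6,0,3,0,2,6,0,2], [2,0,3,6,0,2,2,6,0,2,0,2,0,2,6], [2,2,0,2,2,0,2,4,6,0,2,2,0,2,2],
  [3,0,5,6,0,2,0,6,0,3,0,6,0,2], [3,6,0,2,2,0,2,0,3,0,2,0,2,0,2], [2,2,0,6,0,2,0,2,2,6,0,3,0,6,0,2,2], [2,2,5,6,0,2,2,6,0,2,2,0,6], [0,2,4,6,0,2,0,2,0,3,6,0,2,6,0,3], [3,0,3,0,2,2,0,3,0,2,0,3,4,6],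
  [2,0,2,0,2,2,4,6,0,2,2,6,0,2,6,0,3], [2,6,0,2,0,2,0,3,6,0,2,6,0,3], [4,4,6,0,2,2,0,2,2,6,0,2,2,6], [0,3,0,3,0,2,2,0,3,0,2,0,3,6], [6,0,2,2,0,2,2,6,0,2,2,6], [2,0,2,0,2,2,5,6,0,2,2,6,0,2,6,0,3],
  [2,6,0,2,0,3,0,3,6,0,2,6,0,2], [0,3,0,3,0,2,2,0,3,0,2,0,3,4,4,6], [2,0,3,6,0,2,0,2,0,3,0,3,6,0,2,0,6], [5,6,0,2,2,0,2,2,6,0,2,2,6], [2,4,6,0,2,0,2,0,3,6,0,2,6,0,3], [0,3,0,3,0,2,2,0,3,0,2,0,3,4,6],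
  [2,0,3,0,3,0,2,2,0,2,0,2,0,3,6], [6,0,2,0,2,6,0,2,2,0,2,6,0,2,2], [0,2,0,3,5,6,0,2,6,0,3,0,3,0,3,6], [0,2,4,6,0,3,0,2,0,2,2,0,2,0,2], [2,0,3,6,0,2,6,0,3,0,3,0,3,6], [2,2,0,3,5,6,0,2,2,0,3,6,0,3,0,6],
  [3,0,2,0,2,0,2,2,5,6,0,3,0,3,0,2], [2,4,4,6,0,3,0,2,0,2,2,0,2,0,2], [2,2,0,3,4,6,0,2,2,0,3,6,0,3,0,6], [2,0,6,0,2,0,3,0,6,0,3,0,3,0,2,6], [3,0,3,6,0,2,6,0,2,0,3,0,3,6], [2,6,0,3,0,2,0,2,2,0,2,0,2],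
  [2,2,0,2,2,0,2,6,0,2,2,0,2,2], [0,3,0,3,0,2,2,0,2,6,0,2,2,0,2], [3,0,4,4,6,0,2,0,6,0,3,0,6,0,2], [2,6,0,3,0,3,0,6,0,3,0,2,6,0,2], [0,2,0,3,0,3,0,2,2,0,2,0,2,0,3,6], [0,6,0,2,0,2,6,0,2,2,0,2,6,0,2,2],
  [2,0,3,5,6,0,2,6,0,3,0,3,0,3,6], [2,4,6,0,3,0,2,0,2,2,0,2,0,2]]

noncomputable def ow6 : List (ℕ × List ℕ) := [
  (0,[2,0,3,0,2,0,3,0,2]), (0,[3,0,2,0,2,0,3,0,2]), (1,[3,0,2,0,2,0,3,0,2]), (1,[3,0,3,0,2,0,2]), (1,[2,2,0,3,0,3]), (0,[3,0,2,0,3,0,2,0,3]),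
  (0,[]), (1,[]), (0,[2,2,0,2,0,3,0,2]), (0,[3,0,3,0,2,0,3,0,3]), (1,[2,0,3,0,2,0,3,0,2]), (0,[3,0,3,0,2,0,2]),
  (1,[2,2,0,2,0,3,0,2]), (0,[2,2,0,3,0,3]), (1,[3,0,2,0,3,0,2,0,3]), (1,[3,0,3,0,2,0,3,0,3])]

noncomputable def reps6 : List OutRep := [
  ⟨[2,2,6,0,2,2,6,0,2,2,6], [3,0,2,0,3,6,0,2,6], [3,0,2,0,3,0,3,0,2], [[2,2,0,2,2,0,2,0,2,2,0,2,2]]⟩,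
  ⟨[2,2,4,4,6,0,2,2,6,0,2,2,6], [3,0,2,0,3,6,0,2,6], [3,0,2,0,3,0,3,0,2], [[2,2,0,2,2,0,2,0,2,2,0,2,2]]⟩]

/-- The lists. -/
noncomputable def dat6 : Dat := ⟨de6, do6, ow6, reps6⟩

noncomputable def small6 : List (List ℕ) := [
  [2,0,40,1,42,43,3,41], [2,43,0,40,1,41,42,3], [43,2,41,3,42,0,1,40], [2,3,41,42,0,1,43,40], [0,2,42,3,40,41,1,43], [0,41,2,42,3,43,40,1],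
  [40,1,42,2,43,3,0,41], [1,2,42,43,3,0,40,41], [2,42,43,0,40,1,41,3], [40,42,2,43,0,1,41,3], [41,42,2,3,43,40,0,1], [42,2,3,40,0,41,1,43],
  [42,43,1,2,40,41,3,0], [43,1,2,41,3,42,0,40], [3,1,43,2,41,42,0,40], [3,42,1,43,2,40,41,0], [41,0,43,1,40,2,3,42], [0,1,43,40,2,3,41,42],
  [42,3,40,0,41,1,2,43], [3,0,40,41,1,2,42,43], [0,40,41,2,42,3,43,1], [42,40,0,41,2,3,43,1], [43,40,0,1,41,42,2,3], [40,0,1,42,2,43,3,41],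
  [3,41,42,1,43,2,40,0], [43,41,3,42,1,2,40,0], [40,41,3,0,42,43,1,2], [41,3,0,43,1,40,2,42], [1,3,41,0,43,40,2,42], [1,40,3,41,0,42,43,2],
  [1,43,40,3,41,0,42,2], [41,43,1,40,3,0,42,2]]

theorem smallOk6 : dat6.smallOk (6 : Fin 12) cert6 small6 = true := by decide +kernel

theorem dok6 : dat6.Ok (6 : Fin 12) cert6 :=
  ⟨by decide +kernel, ⟨_, smallOk6⟩, by decide +kernel, by decide +kernel, by decide +kernel⟩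

theorem fourth6 : Dat.cnt4 (6 : Fin 12) cert6 dat6.Do [4, 4] = 0 := by decide +kernel

theorem roots6 : Dat.cnt2 (6 : Fin 12) cert6 dat6.Do [4, 4] = 16 ∧
    Dat.cnt2 (6 : Fin 12) cert6 dat6.Do [0] = 16 := by decide +kernel

theorem central6 : cert6.eqB (6 : Fin 12) [6, 4, 7] [4] = true := by decide +kernel

end CfsgLib.StdON.ModelData
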