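import Cfsg.Agent.Lib.ONanRec.PinData.C7
import Cfsg.Agent.Lib.StdON.ModelCheck

/-!
The lists for candidate 7 (generated).
-/

set_option autoImplicit false
set_option maxRecDepth 100000
set_option maxHeartbeats 4000000

namespace CfsgLib.StdON.ModelData

open ONanRec.PinData

noncomputable def de7 : List (List ℕ) := [
  [], [0,2,0,6,0,3,0,2,0,6,0,3,6,0,7], [0], [2,0,6,0,3,0,2,0,6,0,3,6,0,7], [0,2,0,3,0,2,0,3,0,2], [7,0,3,7,0,2,0,3,0,2,0,3],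
  [4], [0,2,0,6,0,3,0,2,0,6,0,3,6,0,6], [5], [0,2,0,6,0,3,0,2,0,6,0,3,7,0,7], [0,4], [2,0,6,0,3,0,2,0,6,0,3,6,0,6],
  [0,5], [2,0,6,0,3,0,2,0,6,0,3,7,0,7], [2,0,3,0,2,0,3,0,2], [2,0,3,0,2,0,3,0,2,6,0,7], [0,2,0,3,0,2,0,3,0,2,4], [6,0,3,7,0,2,0,3,0,2,0,3],
  [0,2,0,3,0,2,0,3,0,2,5], [0,2,0,3,0,2,0,3,0,2,7,0,7], [4,4], [0,2,0,6,0,3,0,2,0,7,0,3,7,0,7], [0,4,4], [2,0,6,0,3,0,2,0,7,0,3,7,0,7],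
  [0,2,0,4,6,0,3,0,2,0,6,0,3], [6,0,6], [2,0,3,0,2,0,3,0,2,4], [2,0,3,0,2,0,3,0,2,6,0,6], [2,0,3,0,2,0,3,0,2,5], [2,0,3,0,2,0,3,0,2,7,0,7],
  [0,2,0,3,0,2,0,3,0,2,4,4], [6,0,3,6,0,2,0,3,0,2,0,3], [0,2,0,2,0,3,4,6,0,2,0,2,0,6], [0,3,7,0,3,0,2,7,0,3,0,3], [0,2,0,6,0,3,0,2,0,6,0,3], [6,0,7],
  [0,2,0,6,0,3,0,2,0,7,0,3], [7,0,7], [3,0,2,0,3,0,2,0,3], [0,7,0,2,7,0,3,0,2,0,3,0,2], [2,0,4,6,0,3,0,2,0,6,0,3], [0,6,0,6],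
  [2,0,6,0,3,0,2,0,6,0,3], [0,6,0,7], [2,0,6,0,3,0,2,0,7,0,3], [0,7,0,7], [0,2,0,7,0,3,0,2,0,7,0,3], [4,6,0,6],
  [2,0,3,0,2,0,3,0,2,4,4], [0,6,0,3,6,0,2,0,3,0,2,0,3], [3,7,0,3,0,2,7,0,3,0,3], [2,0,2,0,3,4,6,0,2,0,2,0,6], [0,2,0,2,0,3,7,0,2,0,2,0,7], [2,0,2,0,3,7,0,2,0,2,7],
  [0,2,0,2,0,3,6,0,2,0,2,0,6], [2,0,2,0,3,6,0,2,0,2,6], [0,3,0,2,0,3,0,2,0,3], [7,0,2,7,0,3,0,2,0,3,0,2], [3,0,2,0,3,0,2,0,3,4], [3,0,2,0,3,0,2,0,3,7,0,7],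
  [3,0,2,0,3,0,2,0,3,5], [3,0,2,0,3,0,2,0,3,6,0,6], [2,0,7,0,3,0,2,0,7,0,3], [0,4,6,0,6], [6,0,3,0,3,0,2,7,0,3,0,3,7,0,7], [0,6,0,3,0,3,0,2,6,0,3,0,3],
  [3,6,0,3,0,2,7,0,3,0,3], [2,0,2,0,3,7,0,2,0,2,0,7], [0,2,0,2,0,3,6,0,2,0,2,6], [2,0,2,0,3,6,0,2,0,2,0,6], [0,2,0,2,0,3,6,0,2,0,2,0,7], [2,0,2,0,3,6,0,2,0,2,7],
  [6,0,3,0,3,0,2,6,0,3,0,3,6,0,7], [0,7,0,3,0,3,0,2,7,0,3,0,3], [6,0,3,0,3,0,2,6,0,3,0,3,7,0,7], [0,4,6,0,3,0,3,0,2,6,0,3,0,3], [7,0,3,0,3,0,2,7,0,3,0,3], [6,0,2,6,0,2,0,3,7,0,2,0,2,0,7],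
  [4,6,0,3,0,3,0,2,6,0,3,0,3], [6,0,2,7,0,2,0,3,7,0,2,0,2,0,7], [6,0,3,0,3,0,2,6,0,3,0,3], [6,0,2,6,0,2,0,3,6,0,2,0,2,0,6], [2,6,0,3,0,2,2,7,0,2,2,0,2], [2,0,3,7,0,2,0,3,0,2,2,0,7,0,3],
  [0,3,0,2,0,3,0,2,0,3,4], [6,0,2,7,0,3,0,2,0,3,0,2], [0,3,0,2,0,3,0,2,0,3,5], [0,3,0,2,0,3,0,2,0,3,6,0,6], [3,0,2,0,3,0,2,0,3,4,4], [3,0,2,0,3,0,2,0,3,6,0,7],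
  [0,2,0,2,0,2,0,7,0,3,7,0,3,0,3], [2,2,0,2,2,0,3,0,2,2,0,2,2], [2,7,0,3,0,2,2,7,0,2,2,0,2], [2,0,3,0,3,0,7,0,3,0,2,0,2,7,0,3], [2,0,3,6,0,2,0,3,0,2,2,0,6,0,3], [3,0,2,2,0,2,2,6,0,2,0,3,7],
  [2,6,0,3,0,2,2,6,0,2,2,0,2], [2,0,3,6,0,2,0,3,0,2,2,0,7,0,3], [6,0,3,0,3,0,2,6,0,3,0,3,6,0,6], [0,6,0,3,0,3,0,2,7,0,3,0,3], [3,6,0,3,0,2,6,0,3,0,3], [2,0,2,0,3,6,0,2,0,2,0,7],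
  [6,0,3,0,3,0,2,7,0,3,0,3], [6,0,2,6,0,2,0,3,6,0,2,0,2,0,7], [0,2,6,0,3,0,2,2,7,0,2,2,0,2], [2,0,7,0,2,2,0,2,0,3,0,2,7,0,3], [0,3,0,2,0,3,0,2,0,3,4,4], [6,0,2,6,0,3,0,2,0,3,0,2],
  [0,2,6,0,3,0,2,2,6,0,2,2,0,2], [2,0,6,0,2,2,0,2,0,3,0,2,7,0,3], [0,2,7,0,3,0,2,2,7,0,2,2,0,2], [2,0,3,6,0,3,0,2,0,6,0,2,0,2,0,3], [2,0,2,0,2,0,7,0,3,7,0,3,0,3], [2,2,0,2,2,0,2,0,2,2,0,2,2],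
  [2,2,0,2,2,0,3,0,2,2,0,2,2,4], [0,2,0,2,0,2,0,6,0,3,7,0,3,0,3], [2,2,0,2,2,0,3,0,2,2,0,2,2,5], [0,2,0,2,0,2,0,4,6,0,3,6,0,3,0,3], [2,2,0,2,2,0,2,0,2,2,0,2,2,5], [2,0,2,0,2,0,4,6,0,3,6,0,3,0,3],
  [2,0,2,0,2,0,6,0,3,6,0,3,0,3], [3,0,2,2,0,2,2,6,0,2,0,3,0,7], [2,0,6,0,2,2,0,2,0,3,0,2,6,0,3], [0,3,0,2,2,0,2,2,6,0,2,0,3,7], [2,0,2,0,2,0,6,0,3,7,0,3,0,3], [2,2,0,2,2,0,2,0,2,2,0,2,2,4],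
  [0,2,0,2,0,2,0,6,0,3,6,0,3,0,3], [6,0,2,0,3,0,2,2,7,0,2,2,0,2]]

noncomputable def do7 : List (List ℕ) := [
  [0,3,0,2,0,2,0,2,2,6,0,3,0,3,0,2], [2,2,0,2,2,0,3,7,0,2,2,0,2,2], [0,3,0,2,0,2,0,2,2,7,0,3,0,3,0,2], [2,6,0,2,6,0,2,2,0,2,7,0,2,2], [3,0,2,6,0,3,0,2,2,0,6,0,3,7], [3,0,2,6,0,3,0,2,2,0,6,0,3,0,7],
  [3,0,2,6,0,3,0,2,2,0,7,0,3,7], [3,0,2,6,0,3,0,2,2,0,7,0,3,0,7], [0,3,0,6,0,2,0,6,0,3,0,7,0,2], [6,0,2,0,2,7,0,2,2,0,2,7,0,2,2], [7,0,2,0,2,7,0,2,2,0,2,7,0,2,2], [0,3,0,6,0,2,0,7,0,3,0,7,0,2],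
  [2,0,3,0,3,0,2,2,0,2,0,2,0,3,7], [2,2,0,2,2,0,3,6,0,2,2,0,2,2], [2,0,3,0,3,0,2,2,0,2,0,2,0,3,6], [2,6,0,2,7,0,2,2,0,2,7,0,2,2], [2,2,0,2,2,0,2,7,0,2,2,0,2,2], [3,0,2,0,2,0,2,2,6,0,3,0,3,0,2],
  [2,2,0,3,6,0,2,2,0,3,6,0,3,7], [3,0,2,0,2,0,2,2,7,0,3,0,3,0,2], [2,2,6,0,2,2,7,0,2,2,0,7], [2,0,3,6,0,2,0,2,0,3,0,3,6,0,2,6], [2,0,3,6,0,2,0,2,0,3,0,3,6,0,2,7], [2,2,7,0,2,2,7,0,2,2,0,7],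
  [2,0,3,6,0,2,2,6,0,2,0,2,0,2,7], [2,0,6,0,2,2,7,0,2,0,3,7,0,2], [0,3,0,3,0,2,2,0,2,6,0,2,2,0,2], [2,0,7,0,2,2,7,0,2,0,3,7,0,2], [0,2,6,0,3,0,3,0,7,0,3,0,2,7,0,2], [2,5,7,0,3,0,2,0,2,2,0,2,0,2],
  [0,2,7,0,3,0,3,0,7,0,3,0,2,7,0,2], [2,4,6,0,3,0,2,0,2,2,0,2,0,2], [3,0,2,6,0,3,0,2,2,0,6,0,3,6], [3,0,2,6,0,3,0,2,2,0,6,0,3,0,6], [3,0,2,7,0,3,0,2,2,0,7,0,3,7], [3,0,2,7,0,3,0,2,2,0,7,0,3,0,7],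
  [2,6,0,2,0,2,0,3,7,0,2,7,0,3], [0,3,0,2,6,0,3,0,2,2,0,6,0,3,0,7], [2,6,0,2,0,3,0,3,6,0,2,7,0,2], [0,3,0,2,6,0,3,0,2,2,0,7,0,3,0,7], [2,0,3,0,3,0,2,2,0,3,6,0,2,2,0,2], [2,2,6,0,2,2,6,0,2,2,0,6],
  [2,6,0,3,0,3,0,6,0,3,0,2,6,0,2], [0,2,6,0,3,0,2,0,2,2,0,2,0,2], [2,6,0,3,0,3,0,6,0,3,0,2,7,0,2], [0,2,7,0,3,0,2,0,2,2,0,2,0,2], [0,3,0,6,0,2,0,6,0,3,0,6,0,2], [6,0,2,0,2,6,0,2,2,0,2,7,0,2,2],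
  [0,3,0,7,0,2,0,7,0,3,0,7,0,2], [6,0,2,0,2,6,0,2,2,0,2,6,0,2,2], [2,2,0,3,6,0,2,2,0,3,6,0,3,0,6], [3,0,6,0,2,0,6,0,3,0,7,0,2], [2,2,0,3,6,0,2,2,0,3,6,0,3,0,7], [3,0,6,0,2,0,7,0,3,0,7,0,2],
  [0,2,0,3,0,3,0,2,2,0,2,0,2,0,3,7], [2,2,0,2,2,0,2,6,0,2,2,0,2,2], [2,2,0,3,6,0,2,2,0,3,7,0,3,7], [0,2,0,3,0,3,0,2,2,0,2,0,2,0,3,6], [2,2,6,0,2,2,7,0,2,2,7], [2,0,2,0,2,2,6,0,2,2,7,0,2,7,0,3],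
  [2,2,7,0,2,2,7,0,2,2,7], [2,0,2,0,2,2,7,0,2,2,7,0,2,7,0,3], [2,0,3,0,3,0,2,2,0,3,7,0,2,2,0,2], [2,2,6,0,2,2,6,0,2,2,0,7], [6,0,2,2,0,2,2,7,0,2,2,7], [3,0,6,0,2,0,2,6,0,3,0,2,0,2,2,6],
  [3,0,6,0,2,0,2,6,0,3,0,2,0,2,2,7], [7,0,2,2,0,2,2,7,0,2,2,7], [3,0,2,2,0,2,6,0,2,2,0,2,0,2,0,3], [6,0,2,2,0,2,2,6,0,2,2,6], [3,0,2,2,0,2,7,0,2,2,0,2,0,2,0,3], [6,0,2,2,0,2,2,6,0,2,2,7],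
  [0,3,0,2,2,0,3,7,0,2,2,0,2,0,2], [0,3,0,3,0,2,2,0,3,0,2,0,3,4,6], [3,6,0,3,0,3,0,2,2,7,0,2,7,0,3], [0,3,0,3,0,2,2,0,3,0,2,0,3,6], [2,2,0,3,6,0,2,2,0,3,7,0,3,0,7], [3,0,7,0,2,0,7,0,3,0,7,0,2],
  [2,0,3,6,0,2,6,0,3,0,3,0,3,7], [2,2,0,6,0,3,6,0,2,0,3,6,0,2,2], [2,0,3,6,0,2,7,0,3,0,3,0,3,7], [3,0,3,0,2,2,0,2,6,0,2,2,0,2], [2,0,3,6,0,2,2,6,0,2,0,2,0,2,6], [2,0,6,0,2,2,6,0,2,0,3,7,0,2],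
  [0,3,0,3,0,2,2,0,2,7,0,2,2,0,2], [2,0,6,0,2,2,6,0,2,0,3,6,0,2], [2,0,2,0,2,2,6,0,2,2,6,0,2,6,0,3], [2,2,6,0,2,2,6,0,2,2,6], [0,2,6,0,3,0,3,0,6,0,3,0,2,7,0,2], [2,7,0,3,0,2,0,2,2,0,2,0,2],
  [0,2,6,0,3,0,3,0,6,0,3,0,2,6,0,2], [2,6,0,3,0,2,0,2,2,0,2,0,2], [2,0,3,6,0,2,6,0,3,0,3,0,3,6], [2,2,0,7,0,3,7,0,2,0,3,7,0,2,2], [0,2,5,7,0,3,0,2,0,2,2,0,2,0,2], [2,6,0,3,0,3,0,7,0,3,0,2,7,0,2],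
  [0,2,4,6,0,3,0,2,0,2,2,0,2,0,2], [2,7,0,3,0,3,0,7,0,3,0,2,7,0,2], [2,6,0,2,0,2,0,3,6,0,2,7,0,3], [0,3,0,2,6,0,3,0,2,2,0,6,0,3,0,6], [2,6,0,2,0,2,0,3,6,0,2,6,0,3], [0,3,0,2,7,0,3,0,2,2,0,7,0,3,0,7],
  [2,2,6,0,2,2,6,0,2,2,7], [2,0,2,0,2,2,6,0,2,2,6,0,2,7,0,3], [0,2,2,6,0,2,2,6,0,2,2,7], [0,2,0,2,0,2,2,6,0,2,2,6,0,2,7,0,3], [0,2,2,6,0,2,2,7,0,2,2,7], [0,2,0,2,0,2,2,6,0,2,2,7,0,2,7,0,3],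
  [2,2,0,3,7,0,2,2,0,3,7,0,3,0,7], [3,0,6,0,2,0,6,0,3,0,6,0,2], [0,2,2,7,0,2,2,7,0,2,2,7], [0,2,0,2,0,2,2,7,0,2,2,7,0,2,7,0,3], [0,2,0,2,0,2,2,6,0,2,2,6,0,2,6,0,3], [0,2,2,6,0,2,2,6,0,2,2,6],
  [0,3,0,3,0,2,2,0,3,0,2,0,3,7], [3,7,0,3,0,3,0,2,2,7,0,2,7,0,3], [0,3,0,3,0,2,2,0,3,0,2,0,3,5,7], [0,3,0,2,2,0,3,6,0,2,2,0,2,0,2], [3,0,2,2,0,3,7,0,2,2,0,2,0,2], [3,0,3,0,2,2,0,3,0,2,0,3,4,6],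
  [2,2,0,2,7,0,3,0,2,0,7,0,2,2,7], [3,0,3,0,2,2,0,3,0,2,0,3,6], [2,0,3,7,0,2,7,0,3,0,3,0,3,7], [3,0,3,0,2,2,0,2,7,0,2,2,0,2], [3,0,3,0,2,2,0,3,0,2,0,3,7], [2,2,0,2,6,0,3,0,2,0,6,0,2,2,6],
  [3,0,3,0,2,2,0,3,0,2,0,3,5,7], [3,0,2,2,0,3,6,0,2,2,0,2,0,2]]

noncomputable def ow7 : List (ℕ × List ℕ) := [
]

noncomputable def reps7 : List OutRep := [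
]

/-- The lists. -/
noncomputable def dat7 : Dat := ⟨de7, do7, ow7, reps7⟩

noncomputable def small7 : List (List ℕ) := [
  [0,39,4,38,1,24,5,25], [0,39,4,5,38,24,1,25], [39,0,25,1,38,5,24,4], [39,0,25,24,1,5,38,4], [0,38,4,24,39,1,25,5], [38,25,0,24,39,4,1,5],
  [4,0,24,38,1,5,39,25], [0,24,5,39,4,38,1,25], [24,0,39,5,38,4,25,1], [38,24,0,4,25,39,5,1], [24,4,38,0,5,25,1,39], [4,1,24,0,5,38,25,39],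
  [39,1,25,5,0,38,4,24], [1,4,39,5,0,25,38,24], [5,39,0,24,1,25,4,38], [1,5,39,25,4,0,24,38], [25,39,5,1,38,24,0,4], [39,5,24,0,25,1,38,4],
  [38,4,1,25,0,24,39,5], [38,25,0,1,24,4,39,5], [5,24,1,0,25,39,4,38], [4,1,24,25,0,38,5,39], [4,38,25,1,24,0,5,39], [24,5,38,39,4,0,25,1],
  [24,5,38,4,25,0,39,1], [1,4,39,38,5,25,0,24], [1,25,38,4,39,5,0,24], [25,38,5,4,39,1,24,0], [25,1,4,38,5,39,24,0], [5,24,1,25,4,39,0,38],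
  [5,25,1,39,24,4,38,0], [25,38,5,39,24,1,4,0]]

theorem smallOk7 : dat7.smallOk (7 : Fin 12) cert7 small7 = true := by decide +kernel

theorem dok7 : dat7.Ok (7 : Fin 12) cert7 :=
  ⟨by decide +kernel, ⟨_, smallOk7⟩, by decide +kernel, by decide +kernel, by decide +kernel⟩

theorem fourth7 : Dat.cnt4 (7 : Fin 12) cert7 dat7.Do [4, 4] = 64 := by decide +kernel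

theorem roots7 : Dat.cnt2 (7 : Fin 12) cert7 dat7.Do [4, 4] = 0 ∧
    Dat.cnt2 (7 : Fin 12) cert7 dat7.Do [0] = 0 := by decide +kernel

theorem central7 : cert7.eqB (7 : Fin 12) [6, 4, 7] [4] = true := by decide +kernel

end CfsgLib.StdON.ModelData
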