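import Cfsg.Agent.Lib.ONanRec.PinData.C8
import Cfsg.Agent.Lib.StdON.ModelCheck

/-!
The lists for candidate 8 (generated).
-/

set_option autoImplicit false
set_option maxRecDepth 100000
set_option maxHeartbeats 4000000

namespace CfsgLib.StdON.ModelData

open ONanRec.PinData

noncomputable def de8 : List (List ℕ) := [
  [], [2,2,4,6,3,6,2,0,6,3,0,6], [0], [2,0,3,0,5,6,0,3,0,2,6,3], [4], [6,0,2,6,0,3,6,2,6,2,2],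
  [5], [2,2,6,3,6,2,0,6,3,0,6], [2,0,3,4,6,2,2,6,2,0,3], [2,0,2,6,0,6,0,3,0,6,2,6], [0,4], [2,0,3,0,6,0,3,0,2,6,3],
  [0,5], [2,6,3,0,2,0,6,0,2,0,3], [2,6,2,2,6,0,6,0,2,6,2], [0,3,0,6,0,3,0,2,2,6], [4,4], [2,2,5,6,3,6,2,0,6,3,0,6],
  [2,4,6,3,0,3,6,0,6,3,6], [4,4,6,2,0,6,2,2,6,0,3,6], [2,2,6,3,0,2,2,0,3,6,2], [6,2,2,6,2,0,3,6,2,2,6], [2,0,3,6,2,2,6,2,0,3], [3,6,2,0,2,2,0,2,6,2,2],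
  [2,2,6,0,6,3,6,2,0,6,2,2], [0,2,0,6,2,6,0,3,0,2,0,2], [2,0,3,0,4,6,0,3,0,2,6,3], [0,4,4], [2,0,3,6,3,6,2,0,3], [2,5,6,2,2,6,0,6,0,2,6,2],
  [0,3,0,4,6,0,3,0,2,2,6], [0,3,6,3,0,6,0,6,2,2,6,3], [0,2,6,2,2,6,0,6,0,2,6,2], [3,0,6,0,3,0,2,2,6], [5,6,2,0,6,2,2,6,0,3,6], [3,6,2,2,6,0,6,2,2,6,2],
  [2,6,3,0,3,6,0,6,3,6], [4,6,2,0,6,2,2,6,0,3,6], [2,0,3,5,6,2,2,6,2,0,3], [0,6,2,0,6,2,2,6,0,3,6], [0,2,6,3,6,2,2,6,2,2,6,2], [2,2,0,6,2,0,3,0,2,0,6,3],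
  [0,3,5,6,2,6,2,2,6,3,6,2], [6,0,2,6,2,0,6,0,3,0,2,6], [2,0,3,6,2,0,3,0,6,2,0,2], [2,0,6,2,6,0,3,0,2,0,2], [0,3,0,2,0,3,6,0,3,0,2,6,3], [2,2,0,6,3,0,2,6,0,3],
  [0,3,6,2,6,2,2,6,3,6,2], [6,2,6,2,0,6,0,2,0,3,6,3], [2,0,3,5,6,3,6,2,0,3], [0,3,4,6,3,0,6,0,6,2,2,6,3], [0,2,0,3,6,3,6,2,0,3], [0,2,5,6,2,2,6,0,6,0,2,6,2],
  [3,6,3,0,6,0,6,2,2,6,3], [3,0,4,6,0,3,0,2,2,6], [2,6,2,2,6,2,2,6,0,2,2,6], [2,2,6,3,6,0,6,0,3,6], [0,6,3,0,3,0,2,0,6,2,6,0,6], [2,0,3,4,6,2,6,2,0,3],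
  [6,2,0,6,2,2,6,0,3,6], [2,5,6,3,0,3,6,0,6,3,6], [2,6,3,6,2,2,6,2,2,6,2], [6,3,0,2,0,6,0,3,6,3,0,6], [3,5,6,2,6,2,2,6,3,6,2], [2,0,6,2,0,2,0,2,2,0,6,3],
  [0,2,6,3,0,2,0,6,2,0,3,0,2], [2,0,3,0,2,0,3,0,2,5], [3,0,2,0,3,0,2,0,3], [2,0,6,3,6,2,6,2,0,3,6,3], [6,3,0,3,0,2,0,6,2,6,0,6], [6,0,6,2,2,0,2,0,2,2],
  [0,6,2,0,6,0,2,0,6,3,0,6], [4,6,2,0,6,0,6,2,6,2,2], [3,0,2,0,3,6,0,3,0,2,6,3], [0,2,2,0,6,3,0,2,6,0,3], [2,6,3,0,2,0,6,2,0,3,0,2], [0,2,0,3,0,2,0,3,0,2,5],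
  [2,0,6,3,6,3,6,0,3,6,0,3], [0,2,0,3,0,2,0,3,0,2,4], [6,2,2,6,0,6,0,6,3,6,2,6], [5,6,2,2,0,2,0,6,0,2], [3,6,2,6,2,2,6,3,6,2], [2,6,2,0,3,0,6,0,3,6,3,6],
  [6,0,6,3,6,0,3,0,2,0,2,6], [2,0,3,6,2,6,2,0,3], [2,2,0,3,0,2,2,6,0,6], [3,4,6,3,0,6,0,6,2,2,6,3], [6,2,0,6,0,2,0,6,3,0,6], [2,2,5,6,3,6,0,6,0,3,6],
  [3,6,0,3,0,2,6,0,6,0,2,6], [0,5,6,2,2,0,2,0,6,0,2], [6,0,2,6,0,3,0,6,0,3,6], [2,2,4,6,3,6,0,6,0,3,6], [0,2,6,2,2,6,2,2,6,0,2,2,6], [0,2,2,6,3,6,0,6,0,3,6],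
  [0,3,0,2,0,3,0,2,0,3,4], [2,0,2,6,0,6,0,2,6,3,0,6], [3,0,3,6,2,0,2,6,3,6,3,6], [0,6,2,2,0,2,0,6,0,2], [0,2,0,6,3,0,2,6,0,2,2], [3,0,6,2,6,2,2,6,3,0,2,6],
  [0,2,0,3,0,2,0,3,0,2], [0,2,0,6,2,0,6,2,6,2,6,0,3], [6,3,0,6,0,6,3,0,2,0,6,2], [6,2,2,0,2,0,6,0,2], [0,6,0,2,6,0,3,0,6,0,3,6], [5,6,2,0,6,0,6,2,6,2,2],
  [2,0,6,2,0,6,2,6,2,6,0,3], [2,0,3,0,2,0,3,0,2], [3,0,2,0,3,0,2,0,3,5], [6,3,0,6,0,2,0,6,2,0,3,6], [3,0,3,6,3,6,0,2,0,6,0,6], [6,2,0,6,0,6,2,6,2,2],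
  [3,0,2,0,3,0,2,0,3,4], [2,6,0,6,0,6,0,3,6,2,0,2], [0,6,0,6,3,6,0,3,0,2,0,2,6], [0,2,0,3,6,2,6,2,0,3], [0,2,0,6,3,6,3,6,0,3,6,0,3], [2,0,3,0,2,0,3,0,2,4],
  [0,3,0,2,0,3,0,2,0,3], [6,2,0,3,6,0,3,0,6,0,2,6], [4,6,0,2,6,0,3,0,6,0,3,6], [0,6,2,0,6,0,6,2,6,2,2], [2,0,6,3,0,2,6,0,2,2], [3,0,3,6,2,0,6,0,6,0,6,3],
  [0,3,0,2,0,3,0,2,0,3,5], [2,6,2,0,3,6,3,6,2,6,0,3]]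

noncomputable def do8 : List (List ℕ) := [
  [3,0,2,2,5,6,2,2,0,2], [2,6,2,0,6,2,2,6,0,3], [3,5,6,2,6,0,3,0,3,6,2], [2,2,4,6,0,6,0,6,2,2], [6,3,0,2,0,2,2,6,2,6], [4,6,2,0,6,2,6,2,6,0,3,6],
  [0,2,6,2,0,6,2,2,6,0,3], [2,2,5,6,0,6,0,6,2,2], [6,0,2,0,3,0,6,2,0,6], [0,3,6,2,6,0,3,0,3,6,2], [2,4,6,2,0,6,2,2,6,0,3], [3,0,2,2,6,2,2,0,2],
  [3,6,2,6,0,3,0,3,6,2], [2,0,2,2,0,3,0,6,0,3], [0,2,4,6,2,0,6,2,2,6,0,3], [2,2,6,0,6,0,6,2,2], [0,3,5,6,2,6,0,3,0,3,6,2], [3,0,2,2,4,6,2,2,0,2],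
  [0,4,4,6,0,6,0,6,0,6,0,6], [3,0,2,2,0,3,0,2,6,2,0,2], [0,2,5,6,3,0,6,3,6,0,6,3,6], [0,6,2,0,6,3,6,3,6,0,3,6], [0,3,6,2,0,2,0,6,3,6,2], [6,2,6,0,6,0,6,3,6],
  [0,6,3,0,2,0,2,2,6,2,6], [0,4,6,2,0,6,2,6,2,6,0,3,6], [5,6,3,0,2,0,2,2,6,2,6], [6,2,0,6,2,6,2,6,0,3,6], [4,6,3,0,2,0,2,2,6,2,6], [2,0,2,2,0,6,0,2,6,0,3,0,6],
  [2,2,0,3,0,3,6,0,3,6,3,6], [2,6,3,0,6,3,6,0,6,3,6], [0,6,0,6,0,6,0,6,0,6], [0,2,0,2,6,0,2,2,6,0,6,2], [0,5,6,0,6,0,6,0,6,0,6], [0,6,0,6,3,6,0,3,6,3,6,3],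
  [0,4,6,0,6,0,6,0,6,0,6], [2,2,0,3,0,3,0,2,0,3,6,3], [2,0,2,6,2,6,3,6,3,0,3], [2,6,2,0,6,2,0,2,6,0,2,2], [4,4,6,0,6,0,6,0,6,0,6], [5,6,0,6,3,6,0,3,6,3,6,3],
  [6,2,0,6,3,6,3,6,0,3,6], [2,5,6,3,0,6,3,6,0,6,3,6], [0,2,2,0,6,3,0,3,6,0,3,6,3], [2,2,0,6,2,2,0,6,3,6,3,0,2], [0,2,2,0,3,0,3,6,0,3,6,3,6], [0,2,6,3,0,6,3,6,0,6,3,6],
  [2,5,6,2,0,3,0,3,6,0,6], [2,2,5,6,2,0,2,6,2,0,6], [4,6,2,6,0,6,0,6,3,6], [2,0,6,2,2,6,0,3,6,3], [0,5,6,2,6,0,6,0,6,3,6], [3,5,6,2,0,2,0,6,3,6,2],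
  [2,4,4,6,2,6,0,2,0,2,6], [0,6,0,6,2,0,2,0,3,6,3], [0,5,6,3,0,2,0,2,2,6,2,6], [0,6,2,0,6,2,6,2,6,0,3,6], [3,6,2,0,2,0,6,3,6,2], [0,6,2,6,0,6,0,6,3,6],
  [5,6,2,6,0,6,0,6,3,6], [0,3,5,6,2,0,2,0,6,3,6,2], [2,6,2,6,0,2,0,2,6], [6,2,6,2,0,6,3,6,0,6], [0,4,6,3,0,2,0,2,2,6,2,6], [2,0,2,6,0,3,6,3,6,3,6,2,6],
  [2,2,0,3,0,3,4,6,0,3,6,3,6], [2,4,6,3,0,6,3,6,0,6,3,6], [2,6,0,2,6,2,0,2,2,6,2], [2,6,3,0,6,0,2,6,3], [2,4,6,2,0,3,0,3,6,0,6], [2,2,4,6,2,0,2,6,2,0,6],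
  [6,0,6,0,6,0,6,0,6], [2,0,2,6,0,2,2,6,0,6,2], [5,6,0,6,0,6,0,6,0,6], [6,0,6,3,6,0,3,6,3,6,3], [4,6,0,6,0,6,0,6,0,6], [2,0,2,4,6,0,2,2,6,0,6,2],
  [0,2,0,2,6,2,6,3,6,3,0,3], [0,2,6,2,0,6,2,0,2,6,0,2,2], [2,2,0,6,3,0,3,6,0,3,6,3], [2,0,3,6,3,6,3,0,3,0,6,0,3], [2,4,6,2,6,0,2,0,2,6], [4,6,2,6,2,0,6,3,6,0,6],
  [0,2,6,2,6,0,2,0,2,6], [0,6,2,6,2,0,6,3,6,0,6], [2,2,0,2,6,2,2,6,0,6,0,2,2], [0,2,4,6,3,0,6,3,6,0,6,3,6], [2,6,2,0,3,0,3,6,0,6], [2,2,6,2,0,2,6,2,0,6],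
  [0,6,0,6,2,6,0,3,6,3,6], [2,2,4,4,6,2,0,2,6,2,0,6], [4,6,0,6,2,6,0,3,6,3,6], [0,2,2,5,6,2,0,2,6,2,0,6], [2,5,6,2,6,2,0,6,2,6,0,6], [2,4,4,6,3,0,6,0,2,6,3],
  [2,5,6,2,6,0,2,0,2,6], [5,6,2,6,2,0,6,3,6,0,6], [2,0,2,0,2,6,3,6,2,6,3], [6,0,6,2,0,2,0,3,6,3], [6,0,2,2,0,3,0,6,0,6], [2,0,4,6,2,2,6,0,3,6,3],
  [0,4,6,2,6,0,6,0,6,3,6], [0,2,0,6,2,2,6,0,3,6,3], [0,6,0,2,2,0,3,0,6,0,6], [0,2,0,4,6,2,2,6,0,3,6,3], [0,2,5,6,2,6,0,2,0,2,6], [4,6,0,6,2,0,2,0,3,6,3],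
  [2,4,6,0,2,6,2,0,2,2,6,2], [2,4,6,3,0,6,0,2,6,3], [2,6,2,6,2,0,6,2,6,0,6], [2,5,6,3,0,6,0,2,6,3], [0,2,6,0,2,6,2,0,2,2,6,2], [0,2,6,3,0,6,0,2,6,3],
  [5,6,0,6,2,6,0,3,6,3,6], [0,2,2,4,6,2,0,2,6,2,0,6], [6,0,6,2,6,0,3,6,3,6], [0,2,2,4,4,6,2,0,2,6,2,0,6], [0,2,6,2,6,2,0,6,2,6,0,6], [0,2,5,6,3,0,6,0,2,6,3],
  [0,2,4,6,2,6,0,2,0,2,6], [5,6,0,6,2,0,2,0,3,6,3], [0,2,6,2,0,3,0,3,6,0,6], [0,2,2,6,2,0,2,6,2,0,6], [3,0,3,6,3,0,2,0,2,2,0,2], [0,2,4,4,6,3,0,6,0,2,6,3],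
  [2,0,3,0,6,0,3,6,0,2,6,3], [0,2,4,6,3,0,6,0,2,6,3]]

noncomputable def ow8 : List (ℕ × List ℕ) := [
  (1,[3,0,5,6,3,0,2,0,3,0,3,6]), (1,[2,2,0,3,0,3]), (0,[3,0,2,2,0,2,6,0,3,0,6]), (1,[6,3,6,2,0,3,6,0,3,6]), (0,[3,0,5,6,3,0,2,0,3,0,3,6]), (0,[0,3,4,6,2,2,0,2,6,0]),
  (0,[6,3,6,2,0,3,6,0,3,6]), (0,[2,2,0,3,0,3]), (1,[0,3,4,6,2,2,0,2,6,0]), (0,[0,2,6,0,6,0,6,2,0,6,3]), (1,[2,2,0,3,0,3,6,0,2,0,6]), (0,[3,0,2,0,2,6,0,3,0,6]),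
  (0,[0,3,0,3,6,0,2,6,0,3]), (1,[4,4,6,2,0,6,2,2,6,0,3,6]), (1,[3,0,2,2,0,2,6,0,3,0,6]), (0,[]), (0,[2,6,0,2,0,6,2,2,0]), (1,[0,2,6,0,6,0,6,2,0,6,3]),
  (1,[2,6,0,2,0,6,2,2,0]), (0,[4,4,6,2,0,6,2,2,6,0,3,6]), (0,[0,6,2,0,6,2,0,3,6,2,6,3]), (1,[3,0,6,0,3,0,6,2,0]), (0,[2,2,0,3,0,3,6,0,2,0,6]), (0,[2,2,0,3,6,0,2,6,2,0,3]),
  (1,[6,3,0,6,2,6,2,0,2,2,6]), (1,[3,0,2,0,2,6,0,3,0,6]), (1,[2,0,2,2,0,2,0,2,2]), (0,[2,2,6,3,0,3,0,6,0,3]), (1,[0,6,0,2,0,6,0,3,6,0,3,6]), (0,[3,6,0,2,6,0,6,3,6,2,0]),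
  (1,[0,2,2,6,0,6,2,0,2,6,0,6]), (0,[5,6,2,2,6,2,6,0,6,2]), (1,[0,3,0,3,6,0,2,6,0,3]), (1,[]), (0,[3,0,2,0,3,0,2,0,3]), (1,[3,0,2,0,2,4,6,3,0,3,6]),
  (0,[2,2,5,6,2,6,2,6,3,6,2]), (1,[0,6,2,0,6,2,0,3,6,2,6,3]), (1,[2,2,5,6,2,6,2,6,3,6,2]), (0,[0,6,0,2,0,6,0,3,6,0,3,6]), (0,[3,0,6,0,3,0,6,2,0]), (1,[5,6,2,2,6,2,6,0,6,2]),
  (0,[2,0,2,0,2,2,0,3]), (1,[2,2,0,3,6,0,2,6,2,0,3]), (0,[3,0,2,0,2,4,6,3,0,3,6]), (0,[6,3,0,6,2,6,2,0,2,2,6]), (1,[2,4,6,2,0,6,0,2,6,0,6]), (0,[6,0,3,0,6,2,0,2,0,3]),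
  (1,[2,2,6,3,0,3,0,6,0,3]), (0,[0,2,4,6,2,6,2,6,0,6,2]), (0,[0,2,2,6,0,6,2,0,2,6,0,6]), (1,[3,6,0,2,6,0,6,3,6,2,0]), (0,[2,0,2,2,0,2,0,2,2]), (1,[0,2,4,6,2,6,2,6,0,6,2]),
  (1,[3,0,2,0,3,0,2,0,3]), (1,[6,0,3,0,6,2,0,2,0,3]), (0,[2,5,6,3,6,0,6,0,3,6]), (1,[0,4,6,2,0,6,0,2,0]), (0,[2,4,6,2,0,6,0,2,6,0,6]), (1,[2,0,3,0,3,6,0,2,0,6]),
  (1,[2,0,2,0,2,2,0,3]), (0,[0,4,6,2,0,6,0,2,0]), (0,[2,0,3,0,3,6,0,2,0,6]), (1,[2,5,6,3,6,0,6,0,3,6])]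

noncomputable def reps8 : List OutRep := [
  ⟨[2,6,3,0,6,3,6,0,6,3,6], [3,0,5,6,0,3,0,6,2], [2,0,3,6,3,0,6,2,0,2,2], [[2,2,0,2,6,2,6,2,2],[0,2,6,2,6,3,0,2,0,6,2]]⟩,
  ⟨[2,4,6,3,0,6,3,6,0,6,3,6], [3,0,5,6,0,3,0,6,2], [2,0,3,6,3,0,6,2,0,2,2], [[2,2,0,2,6,2,6,2,2],[2,2,6,0,6,0,2,2,6,0]]⟩]

/-- The lists. -/
noncomputable def dat8 : Dat := ⟨de8, do8, ow8, reps8⟩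

noncomputable def small8 : List (List ℕ) := [
  [0,15,28,4,1,14,5,29], [0,4,28,15,29,1,14,5], [4,0,15,28,14,5,29,1], [15,28,0,4,1,14,5,29], [28,15,4,0,5,29,1,14], [28,0,4,15,29,1,14,5],
  [15,4,0,28,14,5,29,1], [4,28,15,0,5,29,1,14], [14,29,1,5,0,15,4,28], [0,29,14,4,5,15,1,28], [1,14,29,5,0,15,4,28], [1,5,29,14,28,0,15,4],
  [14,0,4,29,28,5,15,1], [29,1,5,14,28,0,15,4], [5,29,14,1,4,28,0,15], [29,4,0,14,15,1,28,5], [4,14,29,0,1,28,5,15], [0,15,29,14,1,4,28,5],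
  [28,0,5,1,29,15,4,14], [14,5,0,4,15,29,1,28], [29,1,4,0,28,14,5,15], [1,14,28,15,0,5,29,4], [4,28,14,29,5,0,15,1], [15,4,1,5,14,28,0,29],
  [29,14,5,1,4,28,0,15], [5,1,14,29,15,4,28,0], [14,5,1,29,15,4,28,0], [5,15,28,1,0,29,4,14], [5,29,15,28,4,1,14,0], [28,5,1,15,14,0,29,4],
  [1,28,15,5,4,14,0,29], [15,1,5,28,29,4,14,0]]

theorem smallOk8 : dat8.smallOk (8 : Fin 12) cert8 small8 = true := by decide +kernel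

theorem dok8 : dat8.Ok (8 : Fin 12) cert8 :=
  ⟨by decide +kernel, ⟨_, smallOk8⟩, by decide +kernel, by decide +kernel, by decide +kernel⟩

theorem fourth8 : Dat.cnt4 (8 : Fin 12) cert8 dat8.Do [4, 4] = 0 := by decide +kernel

theorem roots8 : Dat.cnt2 (8 : Fin 12) cert8 dat8.Do [4, 4] = 0 ∧
    Dat.cnt2 (8 : Fin 12) cert8 dat8.Do [0] = 0 := by decide +kernel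

theorem rootless8 : dat8.rootlessOk (8 : Fin 12) cert8 = true := by decide +kernel

end CfsgLib.StdON.ModelData
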