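import Cfsg.Agent.Lib.ONanRec.PinData.C9
import Cfsg.Agent.Lib.StdON.ModelCheck

/-!
The lists for candidate 9 (generated).
-/

set_option autoImplicit false
set_option maxRecDepth 100000
set_option maxHeartbeats 4000000

namespace CfsgLib.StdON.ModelData

open ONanRec.PinData

noncomputable def de9 : List (List ℕ) := [
  [0,3,6,2,6,2,2,6,3,7,2], [], [3,6,2,6,2,2,6,3,7,2], [0], [4], [0,2,6,3,6,2,2,6,2,2,7,2],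
  [5], [0,2,6,3,6,2,2,6,2,2,6,2], [2,6,3,6,2,2,6,2,2,7,2], [0,4], [2,6,3,6,2,2,6,2,2,6,2], [0,5],
  [0,3,0,2,0,3,0,2,0,3,4], [2,6,2,2,6,0,6,0,2,6,2], [0,3,6,2,6,2,2,6,3,6,2], [4,4], [3,6,2,6,2,2,6,3,6,2], [0,4,4],
  [2,0,6,3,6,3,6,0,3,7,0,3], [0,6,2,2,0,2,0,7,0,2], [3,0,2,0,3,0,2,0,3,4], [0,2,6,2,2,6,0,6,0,2,6,2], [2,0,6,3,0,2,7,0,2,2], [0,3,6,3,0,6,0,6,2,2,6,3],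
  [0,3,0,2,0,3,0,2,0,3], [0,3,6,3,0,6,0,6,2,2,7,3], [2,0,6,2,0,6,2,6,2,6,0,3], [0,2,0,3,6,2,7,2,0,3], [2,0,6,2,0,6,2,6,2,7,0,3], [0,2,0,3,6,2,6,2,0,3],
  [0,2,0,6,2,0,6,2,6,2,6,0,3], [2,0,3,6,2,7,2,0,3], [0,2,0,6,2,0,6,2,6,2,7,0,3], [2,0,3,6,2,6,2,0,3], [2,0,3,0,2,0,3,0,2], [3,6,0,3,0,2,6,0,6,0,2,7],
  [3,0,3,6,2,0,6,0,6,0,6,3], [0,2,0,3,6,3,6,2,0,3], [3,0,3,6,2,0,6,0,6,0,7,3], [0,2,0,3,6,3,7,2,0,3], [0,2,0,6,3,6,3,6,0,3,7,0,3], [6,2,2,0,2,0,7,0,2],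
  [2,6,2,2,6,2,2,6,0,2,2,7], [2,0,3,4,6,2,2,6,2,0,3], [3,6,3,0,6,0,6,2,2,6,3], [2,6,3,0,6,3,0,6,3,7], [3,6,3,0,6,0,6,2,2,7,3], [3,0,2,0,3,0,2,0,3],
  [0,3,0,2,0,3,0,2,0,3,5], [2,6,2,2,6,0,6,0,2,7,2], [0,2,0,6,3,6,3,6,0,3,6,0,3], [6,2,2,0,2,0,6,0,2], [2,0,6,3,6,3,6,0,3,6,0,3], [0,6,2,2,0,2,0,6,0,2],
  [0,2,0,3,0,2,0,3,0,2], [6,2,2,6,0,6,0,6,3,6,2,6], [2,0,3,0,2,0,3,0,2,4], [3,0,3,6,2,0,2,6,3,6,3,7], [2,0,3,0,2,0,3,0,2,5], [3,0,3,6,2,0,2,6,3,6,3,6],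
  [2,2,4,6,3,6,0,6,0,3,6], [4,6,2,0,6,2,2,6,0,3,7], [2,2,4,6,3,6,0,6,0,3,7], [4,6,2,0,6,2,2,6,0,3,6], [2,0,2,6,0,6,0,2,6,3,0,7], [3,0,6,0,3,0,2,2,6],
  [2,0,2,6,0,6,0,2,6,3,0,6], [3,0,6,0,3,0,2,2,7], [2,0,6,3,6,2,6,2,0,3,7,3], [2,0,3,6,3,6,2,0,3], [2,0,6,3,6,2,6,2,0,3,6,3], [2,0,3,6,3,7,2,0,3],
  [3,0,3,6,3,6,0,2,0,6,0,6], [2,4,6,3,0,3,6,0,6,3,7], [6,0,2,6,0,3,0,6,0,3,7], [2,0,3,6,2,2,7,2,0,3], [6,0,2,6,0,3,0,6,0,3,6], [2,0,3,6,2,2,6,2,0,3],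
  [3,0,2,0,3,0,2,0,3,5], [0,2,6,2,2,6,0,6,0,2,7,2], [2,0,3,6,2,0,3,0,7,2,0,2], [2,2,4,6,3,6,2,0,6,3,0,6], [2,0,3,6,2,0,3,0,6,2,0,2], [2,2,4,6,3,6,2,0,6,3,0,7],
  [6,2,6,0,2,6,0,2,7,3], [3,6,0,3,0,2,6,0,6,0,2,6], [2,2,0,6,2,0,3,0,2,0,6,3], [2,0,3,0,6,0,3,0,2,7,3], [2,2,0,6,2,0,3,0,2,0,7,3], [2,0,3,0,6,0,3,0,2,6,3],
  [0,6,0,2,6,0,3,0,6,0,3,7], [2,6,3,0,3,6,0,6,3,6], [0,2,0,3,0,2,0,3,0,2,4], [6,3,0,3,0,2,0,6,2,6,0,6], [0,2,0,3,0,2,0,3,0,2,5], [6,3,0,3,0,2,0,6,2,6,0,7],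
  [6,2,0,6,0,6,2,6,2,2], [0,6,2,0,6,2,2,6,0,3,6], [2,6,0,6,0,6,0,3,6,2,0,2], [0,3,0,6,0,3,0,2,2,7], [2,6,0,6,0,6,0,3,7,2,0,2], [0,3,0,6,0,3,0,2,2,6],
  [2,2,6,3,6,0,6,0,3,7], [6,2,0,6,2,2,6,0,3,6], [2,2,6,3,6,0,6,0,3,6], [6,2,0,6,2,2,6,0,3,7], [4,6,2,0,6,0,6,2,7,2,2], [2,2,6,3,0,2,2,0,3,7,2],
  [4,6,2,0,6,0,6,2,6,2,2], [2,2,6,3,0,2,2,0,3,6,2], [2,2,0,6,3,0,2,7,0,3], [6,2,2,6,0,6,0,6,3,6,2,7], [0,6,0,2,6,0,3,0,6,0,3,6], [2,6,3,0,3,6,0,6,3,7],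
  [2,6,2,2,6,2,2,6,0,2,2,6], [2,0,3,4,6,2,2,7,2,0,3], [2,2,6,0,6,3,6,2,0,7,2,2], [2,0,3,0,4,6,0,3,0,2,7,3], [2,2,6,0,6,3,6,2,0,6,2,2], [2,0,3,0,4,6,0,3,0,2,6,3],
  [2,0,6,2,0,2,0,2,2,0,6,3], [2,2,6,3,6,2,0,6,3,0,6], [2,0,6,2,0,2,0,2,2,0,7,3], [2,2,6,3,6,2,0,6,3,0,7], [3,0,3,6,3,6,0,2,0,6,0,7], [2,4,6,3,0,3,6,0,6,3,6],
  [6,2,0,6,0,6,2,7,2,2], [0,6,2,0,6,2,2,6,0,3,7]]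

noncomputable def do9 : List (List ℕ) := [
  [6,2,0,6,3,6,3,6,0,3,7], [0,6,0,6,0,6,0,6,0,6], [6,2,0,6,3,6,3,6,0,3,6], [0,6,0,6,0,6,0,6,0,7], [2,4,6,2,6,0,2,0,2,6], [2,4,6,2,0,3,0,3,6,0,7],
  [0,2,6,3,0,6,0,2,7,3], [0,6,2,0,6,2,6,2,6,0,3,7], [2,4,6,2,0,3,0,3,6,0,6], [2,4,6,2,6,0,2,0,2,7], [0,2,6,3,0,6,0,2,6,3], [0,6,2,0,6,2,6,2,6,0,3,6],
  [0,4,6,2,6,0,6,0,6,3,7], [2,6,2,0,6,2,2,7,0,3], [0,4,6,2,6,0,6,0,6,3,6], [2,6,2,0,6,2,2,6,0,3], [4,6,3,0,2,0,2,2,6,2,6], [0,2,6,0,2,6,2,0,2,2,6,2],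
  [4,6,3,0,2,0,2,2,6,2,7], [0,2,6,0,2,6,2,0,2,2,7,2], [2,2,0,3,0,3,6,0,3,6,3,6], [0,4,6,0,6,0,6,0,6,0,6], [2,2,0,3,0,3,6,0,3,6,3,7], [0,4,6,0,6,0,6,0,6,0,7],
  [0,6,2,0,6,3,6,3,6,0,3,7], [6,0,6,0,6,0,6,0,6], [0,6,2,0,6,3,6,3,6,0,3,6], [6,0,6,0,6,0,6,0,7], [4,6,2,6,0,6,0,6,3,7], [0,2,6,2,0,6,2,2,7,0,3],
  [0,2,6,2,0,6,2,2,6,0,3], [4,6,2,6,0,6,0,6,3,6], [0,2,2,0,3,0,3,6,0,3,6,3,6], [4,6,0,6,0,6,0,6,0,6], [0,2,2,0,3,0,3,6,0,3,6,3,7], [4,6,0,6,0,6,0,6,0,7],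
  [0,2,4,6,3,0,6,0,2,7,3], [0,2,6,2,0,6,2,0,2,7,0,2,2], [0,2,4,6,3,0,6,0,2,6,3], [0,2,6,2,0,6,2,0,2,6,0,2,2], [3,6,2,0,2,0,6,3,6,2], [2,2,6,0,6,0,6,2,2],
  [2,2,6,0,6,0,7,2,2], [3,6,2,0,2,0,6,3,7,2], [2,6,2,0,3,0,3,6,0,6], [2,6,2,6,0,2,0,2,7], [2,6,2,6,0,2,0,2,6], [2,6,2,0,3,0,3,6,0,7],
  [0,2,4,6,2,6,0,2,0,2,6], [4,6,0,6,2,6,0,3,6,3,7], [2,6,3,0,6,0,2,7,3], [6,2,0,6,2,6,2,6,0,3,7], [4,6,0,6,2,6,0,3,6,3,6], [0,2,4,6,2,6,0,2,0,2,7],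
  [2,6,3,0,6,0,2,6,3], [6,2,0,6,2,6,2,6,0,3,6], [0,6,2,6,0,6,0,6,3,6], [0,3,6,2,6,0,3,0,3,6,2], [0,6,2,6,0,6,0,6,3,7], [0,3,6,2,6,0,3,0,3,7,2],
  [2,4,6,3,0,6,0,2,7,3], [2,6,2,0,6,2,0,2,7,0,2,2], [2,4,6,3,0,6,0,2,6,3], [2,6,2,0,6,2,0,2,6,0,2,2], [6,3,0,2,0,2,2,6,2,7], [0,2,6,2,6,2,0,6,2,6,0,6],
  [0,2,6,2,6,2,0,6,2,6,0,7], [6,3,0,2,0,2,2,6,2,6], [2,6,0,2,6,2,0,2,2,6,2], [0,4,6,3,0,2,0,2,2,6,2,6], [2,6,0,2,6,2,0,2,2,7,2], [0,4,6,3,0,2,0,2,2,6,2,7],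
  [3,6,2,6,0,3,0,3,7,2], [6,2,6,0,6,0,6,3,7], [3,6,2,6,0,3,0,3,6,2], [6,2,6,0,6,0,6,3,6], [0,2,4,6,3,0,6,3,6,0,6,3,7], [0,2,0,2,6,0,2,2,6,0,6,2],
  [0,2,4,6,3,0,6,3,6,0,6,3,6], [0,2,0,2,6,0,2,2,6,0,7,2], [0,2,6,2,6,0,2,0,2,6], [6,0,6,2,6,0,3,6,3,7], [6,0,6,2,6,0,3,6,3,6], [0,2,6,2,6,0,2,0,2,7],
  [0,2,0,6,2,2,6,0,3,6,3], [2,2,4,6,0,6,0,6,2,2], [2,2,4,6,0,6,0,7,2,2], [0,2,0,6,2,2,6,0,3,7,3], [0,3,6,2,0,2,0,6,3,6,2], [3,0,2,2,7,2,2,0,2],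
  [2,2,4,6,2,0,2,6,2,0,7], [4,6,0,6,2,0,2,0,3,7,3], [0,3,6,2,0,2,0,6,3,7,2], [3,0,2,2,6,2,2,0,2], [2,2,4,6,2,0,2,6,2,0,6], [4,6,0,6,2,0,2,0,3,6,3],
  [0,2,2,4,6,2,0,2,6,2,0,6], [4,6,2,6,2,0,6,3,6,0,6], [0,2,2,4,6,2,0,2,6,2,0,7], [4,6,2,6,2,0,6,3,6,0,7], [6,0,6,2,0,2,0,3,6,3], [2,2,6,2,0,2,6,2,0,6],
  [2,2,6,2,0,2,6,2,0,7], [6,0,6,2,0,2,0,3,7,3], [0,6,3,0,2,0,2,2,6,2,7], [2,6,2,6,2,0,6,2,6,0,6], [2,6,2,6,2,0,6,2,6,0,7], [0,6,3,0,2,0,2,2,6,2,6],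
  [0,6,0,6,3,6,0,3,6,3,7,3], [0,2,6,3,0,6,3,6,0,6,3,7], [0,2,6,3,0,6,3,6,0,6,3,6], [0,6,0,6,3,6,0,3,6,3,6,3], [2,4,6,3,0,6,3,6,0,6,3,7], [2,0,2,6,0,2,2,6,0,6,2],
  [2,4,6,3,0,6,3,6,0,6,3,6], [2,0,2,6,0,2,2,6,0,7,2], [2,6,3,0,6,3,6,0,6,3,7], [6,0,6,3,6,0,3,6,3,7,3], [2,6,3,0,6,3,6,0,6,3,6], [6,0,6,3,6,0,3,6,3,6,3],
  [0,2,2,6,2,0,2,6,2,0,7], [6,2,6,2,0,6,3,6,0,7], [6,2,6,2,0,6,3,6,0,6], [0,2,2,6,2,0,2,6,2,0,6], [2,0,6,2,2,6,0,3,6,3], [3,0,2,2,4,7,2,2,0,2],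
  [3,0,2,2,4,6,2,2,0,2], [2,0,6,2,2,6,0,3,7,3]]

noncomputable def ow9 : List (ℕ × List ℕ) := [
]

noncomputable def reps9 : List OutRep := [
]

/-- The lists. -/
noncomputable def dat9 : Dat := ⟨de9, do9, ow9, reps9⟩

noncomputable def small9 : List (List ℕ) := [
  [1,4,12,19,0,5,13,18], [4,1,19,12,5,0,18,13], [1,4,18,13,12,19,5,0], [4,1,13,18,19,12,0,5], [1,4,19,12,5,0,18,13], [4,1,12,19,0,5,13,18],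
  [13,18,1,4,5,0,19,12], [18,13,4,1,0,5,12,19], [1,4,12,19,18,13,0,5], [4,1,19,12,13,18,5,0], [19,12,1,4,5,0,18,13], [12,19,4,1,0,5,13,18],
  [12,19,1,4,18,13,0,5], [19,12,4,1,13,18,5,0], [19,12,5,0,1,4,13,18], [12,19,0,5,4,1,18,13], [19,12,1,4,18,13,0,5], [12,19,4,1,13,18,5,0],
  [5,0,13,18,1,4,12,19], [0,5,18,13,4,1,19,12], [13,18,0,5,19,12,1,4], [0,5,13,18,1,4,12,19], [18,13,5,0,12,19,4,1], [5,0,18,13,4,1,19,12],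
  [13,18,5,0,1,4,12,19], [18,13,0,5,4,1,19,12], [0,5,13,18,19,12,1,4], [5,0,18,13,12,19,4,1], [18,13,0,5,19,12,1,4], [13,18,5,0,12,19,4,1],
  [5,0,12,19,18,13,1,4], [0,5,19,12,13,18,4,1]]

theorem smallOk9 : dat9.smallOk (9 : Fin 12) cert9 small9 = true := by decide +kernel

theorem dok9 : dat9.Ok (9 : Fin 12) cert9 :=
  ⟨by decide +kernel, ⟨_, smallOk9⟩, by decide +kernel, by decide +kernel, by decide +kernel⟩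

theorem fourth9 : Dat.cnt4 (9 : Fin 12) cert9 dat9.Do [4, 4] = 0 := by decide +kernel

theorem roots9 : Dat.cnt2 (9 : Fin 12) cert9 dat9.Do [4, 4] = 64 ∧
    Dat.cnt2 (9 : Fin 12) cert9 dat9.Do [0] = 0 := by decide +kernel

end CfsgLib.StdON.ModelData
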