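import Cfsg.Agent.Lib.ONanRec.PinData.C10
import Cfsg.Agent.Lib.StdON.ModelCheck

/-!
The lists for candidate 10 (generated).
-/

set_option autoImplicit false
set_option maxRecDepth 100000
set_option maxHeartbeats 4000000

namespace CfsgLib.StdON.ModelData

open ONanRec.PinData

noncomputable def de10 : List (List ℕ) := [
  [], [0,3,0,3,6,0,6,2,0,2], [3,0,3,6,0,6,2,0,2], [0], [0,2,0,6,2,2,0,6,0,3,6,3,6], [0,2,0,3,0,2,0,3,0,2,4,4],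
  [0,3,0,3,4,6,0,6,2,0,2], [4], [0,3,0,3,5,6,0,6,2,0,2], [5], [3,0,2,0,3,0,2,0,3], [0,2,0,6,0,6,3,6,3,6,2,0,3],
  [3,0,3,4,6,0,6,2,0,2], [0,4], [3,0,3,5,6,0,6,2,0,2], [0,5], [2,0,6,2,2,0,6,0,3,6,3,6], [2,0,3,0,2,0,3,0,2,4,4],
  [2,2,0,3,5,6,0,2,0,2,6,2], [0,2,0,3,0,2,0,3,0,2,5], [0,3,6,3,0,3,0,6,2,0,2,2], [0,2,0,3,0,2,0,3,0,2,4], [0,2,0,6,2,6,0,3,0,2,0,2], [4,4],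
  [0,3,0,2,0,3,0,2,0,3], [2,0,6,0,6,3,6,3,6,2,0,3], [3,0,3,0,6,0,6,0,6,2,0,6], [3,0,2,0,3,0,2,0,3,4], [2,0,3,6,2,6,2,6,0,6,0,3], [3,0,2,0,3,0,2,0,3,5],
  [2,0,6,2,6,0,3,0,2,0,2], [0,4,4], [0,2,2,0,3,5,6,0,2,0,2,6,2], [2,0,3,0,2,0,3,0,2,5], [3,6,3,0,3,0,6,2,0,2,2], [2,0,3,0,2,0,3,0,2,4],
  [2,2,0,3,6,0,2,0,2,6,2], [0,2,0,3,0,2,0,3,0,2], [2,0,2,0,2,4,6,0,3,0,6], [0,2,0,3,6,2,6,2,0,3], [0,3,0,3,0,6,0,6,0,6,2,0,6], [0,3,0,2,0,3,0,2,0,3,4],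
  [0,2,0,3,6,2,6,2,6,0,6,0,3], [0,3,0,2,0,3,0,2,0,3,5], [0,6,0,3,6,0,6,0,6,0,2,0,2], [3,0,2,0,3,0,2,0,3,4,4], [3,0,2,0,3,0,6,3,6,2,0,3], [2,6,0,2,6,2,6,2,0,2,2,6,3],
  [0,6,0,6,0,6,3,6,2,0,2], [0,6,0,3,0,2,0,6], [0,2,2,0,3,6,0,2,0,2,6,2], [2,0,3,0,2,0,3,0,2], [2,0,3,5,6,2,6,2,0,3], [0,2,0,2,0,2,6,0,3,0,6],
  [0,2,0,2,0,6,0,2,2,0,3,6], [0,2,0,3,4,6,2,6,2,0,3], [2,0,2,0,2,6,0,3,0,6], [0,2,0,3,5,6,2,6,2,0,3], [0,2,0,3,6,2,2,6,2,0,3], [5,6,0,3,0,2,0,6],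
  [2,0,3,6,2,6,2,0,3], [0,2,0,2,0,2,4,6,0,3,0,6], [2,0,3,4,6,2,6,2,0,3], [2,0,2,0,6,0,2,2,0,3,6], [6,0,3,6,0,6,0,6,0,2,0,2], [0,3,0,2,0,3,0,2,0,3,4,4],
  [0,2,0,5,6,0,6,0,3], [2,0,6,2,6,3,0,6,0,3,0,6,3], [6,0,3,0,2,0,6], [6,0,6,0,6,3,6,2,0,2], [2,6,0,3,6,2,6,2,0,3,6,2], [0,2,0,2,0,6,0,6,0,6,3,0,6],
  [2,6,0,6,0,2,2,0,6,0,3,6], [3,6,2,0,2,6,0,6,3,0,3,6,2], [0,2,0,4,6,0,6,0,3], [3,0,2,0,3,0,4,6,2,6,2,0,3], [2,0,3,6,2,6,0,2,0,3,0,2], [2,0,2,0,5,6,0,6,0,6,3,0,6],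
  [2,0,5,6,0,6,0,3], [2,0,3,0,2,4,6,0,6,0,6,2,6], [6,2,2,6,2,0,3,6,2,2,6], [0,4,6,0,3,0,2,0,6], [2,0,3,6,2,2,6,2,0,3], [0,5,6,0,3,0,2,0,6],
  [3,0,6,0,2,6,2,2], [2,0,3,6,3,6,2,0,3], [2,0,2,0,6,0,6,0,6,3,0,6], [6,2,0,6,0,2,2,0,6,0,6,3], [0,6,3,6,3,0,2,0,6,0,6], [6,0,2,0,6,3,0,3,0,3],
  [6,0,3,0,2,6,3,0,3,6,2,6], [2,0,2,0,3,0,3,6,3,0,3,6,2], [0,6,0,2,0,6,3,0,3,0,3], [6,3,6,3,0,2,0,6,0,6], [4,4,6,0,3,0,2,0,6], [3,0,3,6,2,6,0,6,0,6],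
  [2,0,2,6,0,3,0,2,0,6,3,0,3], [3,0,2,2,0,6,2,0,6,3,0,2], [0,2,0,3,4,6,3,6,2,0,3], [0,3,0,4,6,0,2,6,2,2], [4,6,0,3,0,2,0,6], [3,0,3,5,6,2,6,0,6,0,6],
  [3,0,2,0,3,0,6,2,6,2,0,3], [0,2,0,6,0,6,0,3], [0,2,0,4,4,6,0,6,0,3], [3,0,3,0,2,0,6,3,0,6,0,3], [2,0,3,6,3,6,0,2,0,3,0,2], [2,0,6,0,6,0,3],
  [2,0,4,4,6,0,6,0,3], [2,0,3,0,2,6,0,6,0,6,2,6], [2,0,3,4,6,3,6,2,0,3], [3,0,4,6,0,2,6,2,2], [2,0,4,6,0,6,0,3], [2,0,3,0,2,5,6,0,6,0,6,2,6],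
  [6,0,6,0,3,0,2,6,2,6], [2,2,5,6,3,0,6,0,2], [0,2,2,6,3,0,6,0,2], [2,0,3,5,6,3,6,2,0,3], [0,3,0,3,6,2,6,0,6,0,6], [0,4,4,6,0,3,0,2,0,6],
  [0,2,0,3,6,3,6,2,0,3], [0,3,0,6,0,2,6,2,2], [6,3,6,2,0,2,6,3,0,2,0,6], [2,0,2,0,4,6,0,6,0,6,3,0,6], [0,6,0,6,0,3,0,2,6,2,6], [0,2,2,5,6,3,0,6,0,2],
  [0,2,0,3,5,6,3,6,2,0,3], [2,2,6,3,0,6,0,2]]

noncomputable def do10 : List (List ℕ) := [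
  [2,2,0,2,0,5,6,2,6,0,2,6], [0,6,2,6,3,0,6,2,0,2,0,2], [2,2,0,2,0,6,2,6,0,2,6], [0,5,6,2,0,6,3,0,2,0,6,2], [2,2,6,3,6,3,0,3,0,3,0,6], [0,3,6,3,0,6,0,3,0,6,0,3],
  [2,5,6,0,2,0,6,2,2,6,2,2], [6,2,6,3,0,6,2,0,2,0,2], [2,6,2,0,3,0,6,3,6], [3,6,3,0,3,0,3,6,0,6], [6,0,2,0,3,6,3,6,3], [0,2,2,6,2,0,3,0,6,2,6],
  [3,0,2,6,0,2,2,0,2], [0,2,0,3,0,4,6,0,2,0,3], [2,6,0,3,0,2,6,3,0,6,2], [0,3,0,2,0,3,6,0,2,0,3], [6,2,6,0,6,2,6,0,3,6,3], [0,6,2,0,6,3,0,2,0,6,2],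
  [5,6,2,0,6,3,0,2,0,6,2], [2,6,0,2,0,6,2,2,6,2,2], [2,4,6,2,0,3,0,6,3,6], [3,0,6,0,3,6,0,3,0,6,3], [2,4,6,2,0,6,3,6,0,6,3,6], [3,6,3,0,6,0,3,0,6,0,3],
  [2,5,6,2,0,3,0,6,3,6], [3,5,6,3,0,3,0,3,6,0,6], [0,2,6,2,0,3,0,6,3,6], [0,3,6,3,0,3,0,3,6,0,6], [3,5,6,0,3,0,2,6,0,3,6], [2,2,0,3,4,6,3,6,0,6],
  [0,3,0,3,0,3,6,0,2,6,3,6], [6,0,6,2,6,2,0,2,2], [2,0,2,5,6,0,6,2,2,6,3], [4,6,0,2,0,3,6,3,6,3], [2,0,2,4,6,0,6,2,2,6,3], [0,3,0,2,2,0,6,3,0,2],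
  [0,6,0,2,0,3,6,3,6,3], [2,2,6,2,0,3,0,6,2,6], [3,0,2,0,3,5,6,0,2,0,3], [5,6,3,0,2,2,6,2,2,0,2,6], [0,2,0,3,0,4,4,6,0,2,0,3], [0,2,6,2,6,2,0,3,0,6],
  [0,2,0,3,0,6,0,2,0,3], [3,0,2,5,6,0,2,2,0,2], [2,0,3,0,4,6,0,2,0,3], [0,3,0,2,6,0,2,2,0,2], [0,3,0,2,6,2,6,3,6,3,0,2], [0,3,0,2,0,3,4,6,0,2,0,3],
  [2,5,6,0,3,0,2,6,3,0,6,2], [0,3,0,2,0,3,5,6,0,2,0,3], [6,3,0,2,2,6,2,2,0,2,6], [3,0,2,0,3,6,0,2,0,3], [6,2,6,0,2,0,3,6,3], [0,2,6,0,2,6,0,3,6,0,2],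
  [2,4,4,6,2,0,3,0,6,3,6], [0,6,0,6,2,0,2,0,2,6,2], [0,2,0,4,6,2,2,6,0,2,6,3], [2,0,3,0,4,6,2,0,3,0,2], [2,2,0,3,5,6,3,6,0,6], [2,0,6,0,2,0,6,0,2,6,2],
  [2,6,2,0,6,3,6,0,6,3,6], [6,2,0,6,3,0,2,0,6,2], [0,2,4,6,2,0,3,0,6,3,6], [5,6,0,6,2,0,2,0,2,6,2], [0,2,5,6,2,0,3,0,6,3,6], [2,6,0,2,0,6,2,0,6,0,2],
  [2,0,6,2,2,6,0,2,6,3], [0,2,0,3,0,6,2,0,3,0,2], [2,0,3,0,5,6,0,2,0,3], [2,4,6,2,6,2,0,3,0,6], [3,6,0,3,0,2,6,0,3,6], [2,2,0,3,4,4,6,3,6,0,6],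
  [3,0,3,0,3,6,0,2,6,3,6], [2,2,0,3,6,3,6,0,6], [0,3,5,6,0,3,0,2,6,0,3,6], [4,6,0,6,2,6,2,0,2,2], [5,6,0,6,2,6,2,0,2,2], [0,2,0,6,0,2,0,6,0,2,6,2],
  [2,0,4,6,2,2,6,0,2,6,3], [0,2,0,3,0,4,6,2,0,3,0,2], [0,2,0,5,6,2,2,6,0,2,6,3], [2,0,3,0,5,6,2,0,3,0,2], [2,6,0,2,0,2,6,0,6,2], [2,0,2,6,0,6,2,2,6,3],
  [0,4,6,0,2,0,3,6,3,6,3], [2,2,4,6,2,0,3,0,6,2,6], [3,0,2,2,0,6,3,0,2], [2,2,5,6,2,0,3,0,6,2,6], [0,2,0,6,2,2,6,0,2,6,3], [2,0,3,0,6,2,0,3,0,2],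
  [4,4,6,2,6,0,2,0,3,6,3], [3,0,6,2,0,6,3,0,6,3], [2,0,6,0,2,2,6,0,2,6,3], [3,0,2,4,6,2,6,3,6,3,0,2], [0,2,0,3,0,5,6,0,2,0,3], [0,2,4,6,2,6,2,0,3,0,6],
  [2,0,3,0,4,4,6,0,2,0,3], [2,6,2,6,2,0,3,0,6], [2,0,3,0,6,0,2,0,3], [3,6,0,6,3,0,3,0,6,3], [2,6,2,6,2,6,3,0,3,0,3], [6,0,6,2,0,2,0,2,6,2],
  [0,3,0,2,4,6,2,6,3,6,3,0,2], [2,0,2,0,3,6,3,6,0,6,2], [3,0,2,6,2,6,3,6,3,0,2], [3,0,2,0,3,4,6,0,2,0,3], [4,6,2,6,0,2,0,3,6,3], [3,0,5,6,2,0,6,3,0,6,3],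
  [5,6,2,6,0,2,0,3,6,3], [3,0,4,6,2,0,6,3,0,6,3], [0,6,2,6,0,2,0,3,6,3], [2,6,0,2,6,0,3,6,0,2], [0,2,6,2,6,0,2,0,3,0,6,2], [2,6,3,0,6,2,2,0,6,0,3],
  [2,0,5,6,2,2,6,0,2,6,3], [0,2,0,3,0,5,6,2,0,3,0,2], [3,0,2,2,0,5,6,3,0,2], [0,2,0,2,6,0,6,2,2,6,3], [0,3,6,0,3,0,2,6,0,3,6], [4,4,6,0,6,2,6,2,0,2,2],
  [3,6,0,6,2,6,2,0,3,0,3], [2,6,2,6,0,2,0,3,0,6,2], [2,0,2,0,2,2,6,2,6,2,6], [0,3,0,6,2,0,6,3,0,6,3], [0,4,6,2,6,0,2,0,3,6,3], [2,4,6,0,2,6,0,3,6,0,2],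
  [0,5,6,2,6,0,2,0,3,6,3], [2,5,6,0,2,6,0,3,6,0,2]]

noncomputable def ow10 : List (ℕ × List ℕ) := [
  (0,[3,0,2,2,0,3,0,6,3,6]), (0,[4,4,6,0,6,3,6,0,3,6]), (0,[2,2,0,2,2,0,3,0,3,0,2]), (0,[2,0,2,2,0,2]), (0,[2,0,3,0,3,0,3,0,2]), (0,[3,6,2,0,2,6,0,6,3,0,3,6,2]),
  (0,[2,0,2,2,0,3,0,2,2]), (0,[0,3,0,5,6,2,0,3,6,3,0]), (0,[3,0,2,0,3,0,6,3,6,2,0,3]), (0,[0,6,2,2,0,6,3,0,6,2,6]), (0,[0,2,2,6,3,0,3,0,6,0,3,0]), (0,[6,2,6,0,2,2,0]),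
  (0,[2,5,6,3,0,2,0,3,6,0,2]), (0,[0,2,6,2,6,3,6,0,6,0,2,0]), (0,[3,0,2,2,0,2,0,2,0,3]), (0,[6,3,6,0,2,6,0,2,2,6,0]), (0,[2,2,0,3,0,6,3,6,2,0]), (0,[3,0,2,0,2,2,0,3,0,3]),
  (0,[0,2,2,0,2,0,4,6,0,6,3,0]), (0,[2,0,6,3,6,2,6,2,0,3,0,6,2]), (0,[3,0,2,0,3,0,2,0,3]), (0,[0,3,4,6,0,6,2,0,3,6,0,6,2]), (0,[0,2,6,0,3,0,2,0,6,2,0,3]), (0,[4,6,3,0,6,3,6,0,6]),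
  (0,[2,5,6,2,0,2,6,2]), (0,[]), (0,[2,2,0,2,0,2]), (0,[0,5,6,0,6,0,6,0,6]), (0,[3,5,6,0,3,6,0,6,3,6]), (0,[3,0,3,6,0,2,0,6,0]),
  (0,[2,0,6,3,0,2,0,3,0,6]), (0,[6,0,2,6,2,6,2,0,6,0])]

noncomputable def reps10 : List OutRep := [
  ⟨[2,0,3,0,6,0,2,0,3], [0,6,2,0,2,2,0,3,6], [2,0,3,6,2,6,0,2,0,3,0,2], [[2,2,0,3,6,3,6,0,6]]⟩]

/-- The lists. -/
noncomputable def dat10 : Dat := ⟨de10, do10, ow10, reps10⟩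

noncomputable def small10 : List (List ℕ) := [
  [0,10,19,49,7,27,6,1], [0,10,27,19,1,7,49,6], [0,7,10,27,19,49,6,1], [19,7,0,27,10,49,1,6], [0,27,10,6,1,7,19,49], [10,0,19,6,49,1,27,7],
  [27,19,0,7,10,1,49,6], [10,7,0,27,49,6,19,1], [19,0,10,27,1,7,6,49], [49,6,0,27,19,10,7,1], [7,27,19,0,49,10,1,6], [6,49,19,0,7,1,27,10],
  [10,0,7,19,27,6,1,49], [27,19,7,0,10,1,6,49], [1,0,49,6,10,27,7,19], [49,1,6,27,0,10,19,7], [1,49,7,0,19,6,10,27], [1,0,6,49,19,7,10,27],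
  [1,7,49,10,27,0,6,19], [19,7,27,10,49,6,0,1], [7,19,10,27,1,6,0,49], [7,27,10,19,6,49,0,1], [19,27,7,1,6,10,0,49], [49,6,1,10,0,7,27,19],
  [49,1,6,19,27,7,0,10], [6,49,1,19,27,0,10,7], [49,6,7,1,19,0,27,10], [6,1,10,7,27,49,0,19], [6,49,7,1,27,10,0,19], [1,6,10,19,49,7,27,0],
  [6,1,49,10,19,27,0,7], [1,6,49,27,19,10,7,0]]

theorem smallOk10 : dat10.smallOk (10 : Fin 12) cert10 small10 = true := by decide +kernel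

theorem dok10 : dat10.Ok (10 : Fin 12) cert10 :=
  ⟨by decide +kernel, ⟨_, smallOk10⟩, by decide +kernel, by decide +kernel, by decide +kernel⟩

theorem fourth10 : Dat.cnt4 (10 : Fin 12) cert10 dat10.Do [4, 4] = 0 := by decide +kernel

theorem roots10 : Dat.cnt2 (10 : Fin 12) cert10 dat10.Do [4, 4] = 0 ∧
    Dat.cnt2 (10 : Fin 12) cert10 dat10.Do [0] = 16 := by decide +kernel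

end CfsgLib.StdON.ModelData
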